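import Groth.Agent.EtShriekLib.Sums

/-! Direct images with proper support compose. -/

set_option autoImplicit false
set_option linter.style.haveILetI false
set_option backward.isDefEq.respectTransparency.types false
set_option backward.defeqAttrib.useBackward true

universe u

open CategoryTheory CategoryTheory.Limits AlgebraicGeometry Opposite EtShriek

namespace Groth.Agent.EtShriekLib

noncomputable section

theorem isProperOver_comp_iff {Q P V R : Scheme.{u}} (π : Q ⟶ P) [LocallyOfFiniteType π] (q : P ⟶ V)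
    [LocallyOfFiniteType q] [IsSeparated q] (ρ : R ⟶ V) [LocallyOfFiniteType ρ] (e : R ⟶ Q) [IsIso e]
    (he : e ≫ π ≫ q = ρ) {Z : Set Q} (hZ : IsClosed Z) :
    ClSub.IsProperOver ρ (e.base ⁻¹' Z) ↔ ClSub.IsProperOver π Z ∧ ClSub.IsProperOver q (π.base '' Z) := by
  let i := (Scheme.IdealSheafData.vanishingIdeal ⟨Z, hZ⟩).subschemeι
  have hi : Set.range i.base = Z := by
    rw [Scheme.IdealSheafData.range_subschemeι, Scheme.IdealSheafData.coe_support_vanishingIdeal]; rfl
  constructor
  · intro h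
    haveI : IsProper ((i ≫ inv e) ≫ ρ) := ProperOver.isProper_comp h (i ≫ inv e) (by
      rintro _ ⟨t, rfl⟩
      show e.base ((i ≫ inv e).base t) ∈ Z
      rw [← Scheme.Hom.comp_apply, Category.assoc, IsIso.inv_hom_id, Category.comp_id]
      exact hi.le ⟨t, rfl⟩)
    haveI : IsProper ((i ≫ π) ≫ q) := by
      rw [show (i ≫ π) ≫ q = (i ≫ inv e) ≫ ρ by simp [← he]]; infer_instance
    haveI : IsProper (i ≫ π) := IsProper.of_comp (i ≫ π) q
    refine ⟨hi ▸ ProperOver.of_range (f := π) i, ?_⟩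
    have h2 := ProperOver.of_range (f := q) (i ≫ π)
    rwa [Scheme.Hom.comp_base, TopCat.coe_comp, Set.range_comp, hi] at h2
  · rintro ⟨h1, h2⟩
    haveI : IsProper (i ≫ π) := ProperOver.isProper_comp h1 i hi.le
    haveI : IsProper ((i ≫ π).imageι ≫ q) := ProperOver.isProper_comp h2 _ (by
      rw [Scheme.IdealSheafData.range_subschemeι, Scheme.Hom.support_ker,
        (i ≫ π).isClosedMap.isClosed_range.closure_eq, Scheme.Hom.comp_base,
        TopCat.coe_comp, Set.range_comp, hi])
    haveI : IsProper ((i ≫ π).toImage ≫ (i ≫ π).imageι) := by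
      rw [Scheme.Hom.toImage_imageι]; infer_instance
    haveI : IsProper (i ≫ π).toImage := IsProper.of_comp _ (i ≫ π).imageι
    haveI : IsProper ((i ≫ inv e) ≫ ρ) := by
      rw [show (i ≫ inv e) ≫ ρ = (i ≫ π).toImage ≫ (i ≫ π).imageι ≫ q by
        rw [Scheme.Hom.toImage_imageι_assoc]; simp [← he]]
      infer_instance
    have h3 := ProperOver.of_range (f := ρ) (i ≫ inv e)
    refine ProperOver.mono h3 (hZ.preimage e.continuous) fun r hr => ?_
    obtain ⟨t, ht⟩ := hi.ge hr
    refine ⟨t, ?_⟩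
    rw [Scheme.Hom.comp_apply, ht, ← Scheme.Hom.comp_apply, IsIso.hom_inv_id]
    rfl

section Support

variable {X Y : Scheme.{u}} (f : X ⟶ Y) [LocallyOfFiniteType f] (F : EtCoh.Ab X)

/-- The support of a section of `f_! F` is the image of its support. -/
theorem supp_Lsh (W : Y.Etale) (t : EtCoh.sect ((Lsh f).obj F) W) :
    sectSupp ((Lsh f).obj F) W t = (prV f W).base '' sectSupp F ((EtCoh.bc f).obj W) t.1 := by
  obtain ⟨hcl, hp⟩ := (mem_shriekSubgroup_iff F f W t.1).1 t.2
  have hC : IsClosed ((prV f W).base '' sectSupp F ((EtCoh.bc f).obj W) t.1) := by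
    let i := (Scheme.IdealSheafData.vanishingIdeal ⟨_, hcl⟩).subschemeι
    haveI : IsProper (i ≫ prV f W) := hp
    have := (i ≫ prV f W).isClosedMap.isClosed_range
    rwa [Scheme.Hom.comp_base, TopCat.coe_comp, Set.range_comp, Scheme.IdealSheafData.range_subschemeι,
      Scheme.IdealSheafData.coe_support_vanishingIdeal] at this
  ext p
  constructor
  · intro hps
    by_contra hn
    let O : W.left.Opens := ⟨_, hC.isOpen_compl⟩
    refine hps (openObj W O) (openHom W O) ⟨⟨p, hn⟩, rfl⟩ (Subtype.ext ?_)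
    refine map_eq_zero_of_disjoint F ((EtCoh.bc f).map (openHom W O)) t.1 ?_
    rw [Set.disjoint_left]
    rintro _ ⟨z, rfl⟩ hz
    exact ((prV f (openObj W O)).base z).2
      ⟨_, hz, congrArg (fun m => m.base z) (EtCoh.isPullback_bc_map f (openHom W O)).w⟩
  · rintro ⟨z, hz, rfl⟩ T g ⟨w, hw⟩ h0
    obtain ⟨y, hy, -⟩ := Scheme.Pullback.exists_preimage_pullback (f := prV f W) (g := g.left) z w hw.symm
    refine hz ((EtCoh.bc f).obj T) ((EtCoh.bc f).map g)
      ⟨(EtCoh.isPullback_bc_map f g).isoPullback.inv y, ?_⟩ (congrArg Subtype.val h0)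
    rw [← hy, ← Scheme.Hom.comp_apply, IsPullback.isoPullback_inv_fst]

/-- `f_! → f_*`. -/
def ιL : Lsh f ⟶ EtCoh.push f where
  app F := ⟨lowerShriekPreι f F⟩
  naturality _ _ _ := rfl

instance mono_ιL : Mono ((ιL f).app F) := by
  haveI : ∀ W, Mono (((ιL f).app F).hom.app W) := fun W =>
    (AddCommGrpCat.mono_iff_injective _).2 Subtype.val_injective
  haveI : Mono ((ιL f).app F).hom := NatTrans.mono_of_mono_app _
  exact (sheafToPresheaf Y.smallEtaleTopology AddCommGrpCat.{u + 1}).mono_of_mono_map ‹_›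

theorem lowerShriekToPush_eq :
    lowerShriekToPush f F = (lowerShriekIso f).hom.app F ≫ (ιL f).app F := by
  rw [lowerShriekToPush, Adjunction.homEquiv_counit]
  exact ((sheafificationAdjunction Y.smallEtaleTopology AddCommGrpCat.{u + 1}).counit.naturality
    ((ιL f).app F))

end Support

section Comp

variable {X Y Z : Scheme.{u}} (f : X ⟶ Y) [LocallyOfFiniteType f] (g : Y ⟶ Z) [LocallyOfFiniteType g]
  [IsSeparated g]

/-- `g_! f_! → (f ≫ g)_*`. -/
def mC : Lsh f ⋙ Lsh g ⟶ EtCoh.push (f ≫ g) :=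
  Functor.whiskerRight (ιL f) (Lsh g) ≫ Functor.whiskerLeft (EtCoh.push f) (ιL g) ≫ (EtCoh.pushComp g f).hom

/-- The comparison `bc (f ≫ g) V ⟶ bc f (bc g V)`. -/
abbrev φg (V : Z.Etale) : (EtCoh.bc (f ≫ g)).obj V ⟶ (EtCoh.bc f).obj ((EtCoh.bc g).obj V) :=
  (MorphismProperty.Over.pullbackComp (P := EtCoh.etaleMP) (Q := ⊤) f g).hom.app V

omit [LocallyOfFiniteType f] [LocallyOfFiniteType g] [IsSeparated g] in
theorem bijective_map_φg (F : EtCoh.Ab X) (V : Z.Etale) : Function.Bijective (F.obj.map (φg f g V).op).hom := by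
  let i := F.obj.mapIso ((MorphismProperty.Over.pullbackComp (P := EtCoh.etaleMP) (Q := ⊤) f g).app V).op
  exact ConcreteCategory.bijective_of_isIso i.hom

omit [IsSeparated g] in
theorem mC_app (F : EtCoh.Ab X) (V : Z.Etale) (t : EtCoh.sect ((Lsh g).obj ((Lsh f).obj F)) V) :
    ((mC f g).app F).hom.app (op V) t = F.obj.map (φg f g V).op t.1.1 := rfl

theorem mem_shriekSubgroup_comp_iff (F : EtCoh.Ab X) (V : Z.Etale)
    (s : EtCoh.sect F ((EtCoh.bc f).obj ((EtCoh.bc g).obj V))) :
    F.obj.map (φg f g V).op s ∈ shriekSubgroup (f ≫ g) F V ↔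
      ∃ h : s ∈ shriekSubgroup f F ((EtCoh.bc g).obj V),
        (⟨s, h⟩ : EtCoh.sect ((Lsh f).obj F) ((EtCoh.bc g).obj V)) ∈ shriekSubgroup g ((Lsh f).obj F) V := by
  haveI : IsSeparated (prV g V) := inferInstanceAs (IsSeparated (pullback.fst V.hom g))
  let e := (MorphismProperty.Over.pullbackComp (P := EtCoh.etaleMP) (Q := ⊤) f g).app V
  haveI : IsIso (φg f g V).left :=
    ((MorphismProperty.Over.forget EtCoh.etaleMP ⊤ X ⋙ Over.forget X).mapIso e).isIso_hom
  have hkey := isProperOver_comp_iff (prV f ((EtCoh.bc g).obj V)) (prV g V) (prV (f ≫ g) V) (φg f g V).left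
    (MorphismProperty.Over.pullbackComp_left_fst_fst f g V) (isClosed_supp F _ s)
  rw [mem_shriekSubgroup_iff, supp_map, hkey]
  constructor
  · rintro ⟨h1, h2⟩
    refine ⟨(mem_shriekSubgroup_iff F f _ s).2 h1, (mem_shriekSubgroup_iff _ g V _).2 ?_⟩
    rw [supp_Lsh]
    exact h2
  · rintro ⟨h1, h2⟩
    have h3 := (mem_shriekSubgroup_iff ((Lsh f).obj F) g V ⟨s, h1⟩).1 h2
    rw [supp_Lsh] at h3
    exact ⟨(mem_shriekSubgroup_iff F f _ s).1 h1, h3⟩

theorem mC_mem (F : EtCoh.Ab X) (V : Z.Etale) (t : EtCoh.sect ((Lsh g).obj ((Lsh f).obj F)) V) :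
    ((mC f g).app F).hom.app (op V) t ∈ shriekSubgroup (f ≫ g) F V := by
  rw [mC_app]
  exact (mem_shriekSubgroup_comp_iff f g F V t.1.1).2 ⟨t.1.2, t.2⟩

/-- `g_! f_! → (f ≫ g)_!`. -/
def δ : Lsh f ⋙ Lsh g ⟶ Lsh (f ≫ g) where
  app F := ⟨{ app := fun V => AddCommGrpCat.ofHom ((((mC f g).app F).hom.app V).hom.codRestrict
                (shriekSubgroup (f ≫ g) F V.unop) fun t => mC_mem f g F V.unop t)
              naturality := fun V V' k => by
                ext a
                exact Subtype.ext (NatTrans.naturality_apply ((mC f g).app F).hom k a) }⟩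
  naturality F G α := by
    refine Sheaf.hom_ext (NatTrans.ext (funext fun V => AddCommGrpCat.hom_ext (AddMonoidHom.ext fun a => ?_)))
    exact Subtype.ext (ConcreteCategory.congr_hom
      (congrArg (fun m => m.hom.app V) ((mC f g).naturality α)) a)

theorem δ_ιL (F : EtCoh.Ab X) : (δ f g).app F ≫ (ιL (f ≫ g)).app F = (mC f g).app F := rfl

instance isIso_δ : IsIso (δ f g) := by
  haveI : ∀ F, IsIso ((δ f g).app F) := fun F => by
    haveI : ∀ V, IsIso (((δ f g).app F).hom.app V) := fun V => by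
      refine (ConcreteCategory.isIso_iff_bijective _).2 ⟨fun a b h => ?_, fun s => ?_⟩
      · exact Subtype.ext (Subtype.ext ((bijective_map_φg f g F V.unop).1 (congrArg Subtype.val h)))
      · obtain ⟨r, hr⟩ := (bijective_map_φg f g F V.unop).2 s.1
        obtain ⟨h1, h2⟩ := (mem_shriekSubgroup_comp_iff f g F V.unop r).1 (by rw [hr]; exact s.2)
        exact ⟨⟨⟨r, h1⟩, h2⟩, Subtype.ext hr⟩
    haveI : IsIso ((sheafToPresheaf Z.smallEtaleTopology AddCommGrpCat.{u + 1}).map ((δ f g).app F)) :=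
      NatIso.isIso_of_isIso_app ((δ f g).app F).hom
    exact isIso_of_reflects_iso _ (sheafToPresheaf _ _)
  exact NatIso.isIso_of_isIso_app _

/-- `(f ≫ g)_! ≅ g_! f_!`. -/
def compIso : lowerShriek (f ≫ g) ≅ lowerShriek f ⋙ lowerShriek g :=
  lowerShriekIso (f ≫ g) ≪≫ (asIso (δ f g)).symm ≪≫ Functor.isoWhiskerLeft (Lsh f) (lowerShriekIso g).symm ≪≫
    Functor.isoWhiskerRight (lowerShriekIso f).symm (lowerShriek g)

theorem compIso_spec (F : EtCoh.Ab X) :
    (compIso f g).hom.app F ≫ (lowerShriek g).map (lowerShriekToPush f F) ≫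
        lowerShriekToPush g ((EtCoh.push f).obj F) =
      lowerShriekToPush (f ≫ g) F ≫ (EtCoh.pushComp g f).inv.app F := by
  rw [lowerShriekToPush_eq, lowerShriekToPush_eq, lowerShriekToPush_eq]
  simp only [compIso, Iso.trans_hom, NatTrans.comp_app, Functor.isoWhiskerRight_hom, Functor.isoWhiskerLeft_hom,
    Functor.whiskerRight_app, Functor.whiskerLeft_app, Iso.symm_hom, Category.assoc, Functor.map_comp]
  rw [← Functor.map_comp_assoc, Iso.inv_hom_id_app, CategoryTheory.Functor.map_id, Category.id_comp,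
    ← Category.assoc ((lowerShriek g).map _), (lowerShriekIso g).hom.naturality, Category.assoc,
    Iso.inv_hom_id_app_assoc, asIso_inv, NatIso.isIso_inv_app]
  congr 1
  rw [IsIso.inv_comp_eq, ← Category.assoc, δ_ιL, mC]
  simp

instance mono_lowerShriekToPush (F : EtCoh.Ab X) : Mono (lowerShriekToPush f F) := by
  rw [lowerShriekToPush_eq]; infer_instance

theorem existsUnique_compIso :
    ∃! φ : lowerShriek (f ≫ g) ≅ lowerShriek f ⋙ lowerShriek g,
      ∀ F : EtCoh.Ab X,
        φ.hom.app F ≫ (lowerShriek g).map (lowerShriekToPush f F) ≫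
            lowerShriekToPush g ((EtCoh.push f).obj F) =
          lowerShriekToPush (f ≫ g) F ≫ (EtCoh.pushComp g f).inv.app F := by
  refine ⟨compIso f g, compIso_spec f g, fun φ hφ => Iso.ext (NatTrans.ext (funext fun F => ?_))⟩
  haveI : Mono ((lowerShriek g).map (lowerShriekToPush f F) ≫ lowerShriekToPush g ((EtCoh.push f).obj F)) := by
    haveI : Mono ((Lsh g).map (lowerShriekToPush f F)) := by
      haveI : ∀ V, Mono (((Lsh g).map (lowerShriekToPush f F)).hom.app V) := fun V =>
        (AddCommGrpCat.mono_iff_injective _).2 fun a b h =>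
          Subtype.ext (injective_app (lowerShriekToPush f F) _ (congrArg Subtype.val h))
      haveI : Mono ((Lsh g).map (lowerShriekToPush f F)).hom := NatTrans.mono_of_mono_app _
      exact (sheafToPresheaf Z.smallEtaleTopology AddCommGrpCat.{u + 1}).mono_of_mono_map ‹_›
    rw [lowerShriekToPush_eq g, ← Category.assoc, (lowerShriekIso g).hom.naturality, Category.assoc]
    infer_instance
  exact (cancel_mono ((lowerShriek g).map (lowerShriekToPush f F) ≫ lowerShriekToPush g ((EtCoh.push f).obj F))).1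
    ((hφ F).trans (compIso_spec f g F).symm)

end Comp

end

end Groth.Agent.EtShriekLib
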