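import Groth.Agent.EtShriekLib.StalkIso
import Groth.Agent.EtSite.ExtZeroStalk
import Mathlib.AlgebraicGeometry.Morphisms.FlatMono

/-! `j_!` for separated étale `j` is the direct image with proper support. -/

set_option autoImplicit false
set_option linter.style.haveILetI false
set_option backward.isDefEq.respectTransparency.types false
set_option backward.defeqAttrib.useBackward true
set_option backward.isDefEq.respectTransparency false

universe u

open CategoryTheory CategoryTheory.Limits AlgebraicGeometry Opposite EtShriek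
open Groth.Agent.Weighting (pt)

namespace Groth.Agent.EtShriekLib

noncomputable section

variable {U X : Scheme.{u}} (j : U ⟶ X) [hj : Etale j]

/-- The graph `W → W ×_X U`. -/
def graph (W : U.Etale) : W ⟶ (EtCoh.bc j).obj ((compEtale j).obj W) :=
  (MorphismProperty.Over.mapPullbackAdj EtCoh.etaleMP.{u} ⊤ j hj trivial).unit.app W

theorem graph_fst (W : U.Etale) : (graph j W).left ≫ prV j ((compEtale j).obj W) = 𝟙 W.left := by
  simp [graph, MorphismProperty.Over.mapPullbackAdj]
  exact pullback.lift_fst _ _ _

theorem graph_naturality {W' W : U.Etale} (g : W' ⟶ W) :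
    g ≫ graph j W = graph j W' ≫ (EtCoh.bc j).map ((compEtale j).map g) :=
  (MorphismProperty.Over.mapPullbackAdj EtCoh.etaleMP.{u} ⊤ j hj trivial).unit.naturality g

instance isOpenImmersion_graph (W : U.Etale) : IsOpenImmersion (graph j W).left := by
  haveI := etale_left (graph j W)
  haveI : IsSplitMono (graph j W).left := IsSplitMono.mk' ⟨_, graph_fst j W⟩
  exact IsOpenImmersion.of_flat_of_mono _

theorem isClosedImmersion_graph [IsSeparated j] (W : U.Etale) : IsClosedImmersion (graph j W).left := by
  haveI : IsSeparated (prV j ((compEtale j).obj W)) :=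
    inferInstanceAs (IsSeparated (pullback.fst ((compEtale j).obj W).hom j))
  haveI : IsClosedImmersion ((graph j W).left ≫ prV j ((compEtale j).obj W)) := by
    rw [graph_fst]; infer_instance
  exact IsClosedImmersion.of_comp _ (prV j ((compEtale j).obj W))

theorem graph_preimage {W' W : U.Etale} (g : W' ⟶ W) :
    ((EtCoh.bc j).map ((compEtale j).map g)).left.base ⁻¹' Set.range (graph j W).left.base ⊆
      Set.range (graph j W').left.base := by
  rintro y ⟨w, hw⟩
  let m := ((EtCoh.bc j).map ((compEtale j).map g)).left
  obtain ⟨p, hp, -⟩ := Scheme.Pullback.exists_preimage_pullback (f := m) (g := (graph j W).left) y w hw.symm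
  let a := pullback.fst m (graph j W).left
  let b := pullback.snd m (graph j W).left
  have hc : a ≫ m = b ≫ (graph j W).left := pullback.condition
  have h1 : m ≫ prV j ((compEtale j).obj W) = prV j ((compEtale j).obj W') ≫ g.left :=
    (EtCoh.isPullback_bc_map j ((compEtale j).map g)).w
  have h2 : m ≫ ((EtCoh.bc j).obj ((compEtale j).obj W)).hom = ((EtCoh.bc j).obj ((compEtale j).obj W')).hom :=
    MorphismProperty.Over.w _
  have h3 : (graph j W).left ≫ ((EtCoh.bc j).obj ((compEtale j).obj W)).hom = W.hom := MorphismProperty.Over.w _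
  have h3' : (graph j W').left ≫ ((EtCoh.bc j).obj ((compEtale j).obj W')).hom = W'.hom := MorphismProperty.Over.w _
  have hab : (a ≫ prV j ((compEtale j).obj W')) ≫ g.left = b := by
    rw [Category.assoc, ← h1, ← Category.assoc, hc, Category.assoc, graph_fst, Category.comp_id]
  have e : a = (a ≫ prV j ((compEtale j).obj W')) ≫ (graph j W').left := by
    refine pullback.hom_ext ?_ ?_
    · refine Eq.trans ?_ (((Category.assoc _ _ _).trans ((congrArg (_ ≫ ·) (graph_fst j W')).trans
        (Category.comp_id _))).symm)
      rfl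
    · refine Eq.trans ?_ (((Category.assoc _ _ _).trans (congrArg (_ ≫ ·) h3')).symm)
      rw [← MorphismProperty.Over.w g, ← Category.assoc _ g.left, hab, ← h3, ← Category.assoc, ← hc,
        Category.assoc, h2]
      rfl
  refine ⟨(a ≫ prV j ((compEtale j).obj W')).base p, ?_⟩
  exact (Scheme.Hom.comp_apply _ _ _).symm.trans ((congrArg (fun m : _ ⟶ ((EtCoh.bc j).obj ((compEtale j).obj W')).left => m.base p) e.symm).trans hp)

variable [IsSeparated j] (F : EtCoh.Ab U)

omit [IsSeparated j] in
theorem graph_ext (W : U.Etale) (z z' : EtCoh.sect F ((EtCoh.bc j).obj ((compEtale j).obj W)))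
    (h : F.obj.map (graph j W).op z = F.obj.map (graph j W).op z')
    (hz : sectSupp F _ z ⊆ Set.range (graph j W).left.base)
    (hz' : sectSupp F _ z' ⊆ Set.range (graph j W).left.base) : z = z' := by
  rw [← sub_eq_zero]
  refine eq_zero_of_supp_empty F _ _ (Set.eq_empty_of_forall_notMem fun x hx => ?_)
  have hx' : x ∈ Set.range (graph j W).left.base := by
    rcases supp_add F _ z (-z') (by rwa [← sub_eq_add_neg]) with h | h
    · exact hz h
    · rw [supp_neg] at h
      exact hz' h
  obtain ⟨w, rfl⟩ := hx'
  refine hx W (graph j W) ⟨w, rfl⟩ ?_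
  rw [map_sub, h, sub_self]

theorem exists_extend (W : U.Etale) (a : EtCoh.sect F W) :
    ∃ z : EtCoh.sect ((Lsh j).obj F) ((compEtale j).obj W),
      F.obj.map (graph j W).op z.1 = a ∧ sectSupp F _ z.1 ⊆ Set.range (graph j W).left.base := by
  haveI := isClosedImmersion_graph j W
  let P := (EtCoh.bc j).obj ((compEtale j).obj W)
  let C : P.left.Opens :=
    ⟨(Set.range (graph j W).left.base)ᶜ, (graph j W).left.isClosedEmbedding.isClosed_range.isOpen_compl⟩
  let I : Bool → U.Etale := fun c => bif c then W else openObj P C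
  let ρ : ∀ c, I c ⟶ P := fun c => match c with
    | true => graph j W
    | false => openHom P C
  let y : ∀ c, F.obj.obj (op (I c)) := fun c => match c with
    | true => a
    | false => 0
  have hcov : Sieve.ofArrows I ρ ∈ U.smallEtaleTopology P :=
    EtSite.mem_smallEtaleTopology_of_points P _ fun x => by
      by_cases hx : x ∈ Set.range (graph j W).left.base
      · obtain ⟨w, rfl⟩ := hx
        exact ⟨W, graph j W, w, Sieve.ofArrows_mk I ρ true, rfl⟩
      · exact ⟨_, openHom P C, ⟨x, hx⟩, Sieve.ofArrows_mk I ρ false, rfl⟩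
  have hne : ∀ (T : U.Etale) (x : T ⟶ W) (x' : T ⟶ openObj P C), x ≫ graph j W = x' ≫ openHom P C →
      IsEmpty T.left := fun T x x' h => ⟨fun w => by
    have e : (graph j W).left.base (x.left.base w) = C.ι.base (x'.left.base w) :=
      congrArg (fun m => m.left.base w) h
    exact (x'.left.base w).2 ⟨_, e⟩⟩
  have hsh := (Presieve.isSheafFor_iff_generate _).2 (((isSheaf_iff_isSheaf_of_type _ _).1
    ((Presheaf.isSheaf_iff_isSheaf_forget _ _ (forget AddCommGrpCat)).1 F.property)) _ hcov)
  rw [Presieve.isSheafFor_arrows_iff] at hsh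
  obtain ⟨z, hz, -⟩ := hsh y (by
    intro c c' T x x' h
    show F.obj.map x.op (y c) = F.obj.map x'.op (y c')
    cases c <;> cases c'
    · simp [y]
    · haveI := hne T x' x h.symm
      exact @Subsingleton.elim _ (EtSite.subsingleton_sect_of_isEmpty F T) _ _
    · haveI := hne T x x' h
      exact @Subsingleton.elim _ (EtSite.subsingleton_sect_of_isEmpty F T) _ _
    · have : x = x' := MorphismProperty.Over.Hom.ext
        ((cancel_mono (graph j W).left).1 (congrArg (fun m => m.left) h))
      rw [this])
  have hs : sectSupp F P z ⊆ Set.range (graph j W).left.base := fun x hx => by_contra fun h =>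
    (not_mem_supp_iff F P z x).2 ⟨_, openHom P C, ⟨x, h⟩, rfl, hz false⟩ hx
  haveI : IsProper ((graph j W).left ≫ prV j ((compEtale j).obj W)) := by rw [graph_fst]; infer_instance
  exact ⟨⟨z, (mem_shriekSubgroup_iff F j _ z).2 (ProperOver.mono
    (ProperOver.of_range (f := prV j ((compEtale j).obj W)) (graph j W).left) (isClosed_supp F P z) hs)⟩,
    hz true, hs⟩

/-- Extension by zero of a section. -/
def extend (W : U.Etale) (a : EtCoh.sect F W) : EtCoh.sect ((Lsh j).obj F) ((compEtale j).obj W) :=
  (exists_extend j F W a).choose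

theorem extend_spec (W : U.Etale) (a : EtCoh.sect F W) :
    F.obj.map (graph j W).op (extend j F W a).1 = a ∧
      sectSupp F _ (extend j F W a).1 ⊆ Set.range (graph j W).left.base :=
  (exists_extend j F W a).choose_spec

theorem extend_unique (W : U.Etale) (a : EtCoh.sect F W) (z : EtCoh.sect ((Lsh j).obj F) ((compEtale j).obj W))
    (h : F.obj.map (graph j W).op z.1 = a) (hs : sectSupp F _ z.1 ⊆ Set.range (graph j W).left.base) :
    z = extend j F W a :=
  Subtype.ext (graph_ext j F W _ _ (h.trans (extend_spec j F W a).1.symm) hs (extend_spec j F W a).2)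

variable [JCont j]

/-- `F → j⁻¹ j_! F`. -/
def ν : 𝟭 (EtCoh.Ab U) ⟶ Lsh j ⋙ restrAlong j where
  app F := ⟨{
    app := fun W => AddCommGrpCat.ofHom (AddMonoidHom.mk' (extend j F W.unop) fun a b =>
      (extend_unique j F W.unop (a + b) (extend j F W.unop a + extend j F W.unop b)
        ((map_add _ _ _).trans (congrArg₂ (· + ·) (extend_spec j F W.unop a).1 (extend_spec j F W.unop b).1))
        ((supp_add F _ _ _).trans (Set.union_subset (extend_spec j F W.unop a).2 (extend_spec j F W.unop b).2))).symm)
    naturality := fun W W' g => by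
      ext a
      refine (extend_unique j F W'.unop _ (((Lsh j).obj F).obj.map ((compEtale j).map g.unop).op
        (extend j F W.unop a)) ?_ ?_).symm
      · show F.obj.map (graph j W'.unop).op (F.obj.map ((EtCoh.bc j).map ((compEtale j).map g.unop)).op _) =
          F.obj.map g.unop.op a
        rw [← Functor.map_comp_apply, ← op_comp, ← graph_naturality, op_comp, Functor.map_comp_apply]
        exact congrArg _ (extend_spec j F W.unop a).1
      · show sectSupp F _ (F.obj.map ((EtCoh.bc j).map ((compEtale j).map g.unop)).op _) ⊆ _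
        rw [supp_map]
        exact (Set.preimage_mono (extend_spec j F W.unop a).2).trans (graph_preimage j g.unop) }⟩
  naturality F G α := by
    refine Sheaf.hom_ext (NatTrans.ext (funext fun W => AddCommGrpCat.hom_ext (AddMonoidHom.ext fun a => ?_)))
    refine (extend_unique j G W.unop _ (((Lsh j).map α).hom.app (op ((compEtale j).obj W.unop))
      (extend j F W.unop a)) ?_ ?_).symm
    · show G.obj.map (graph j W.unop).op (α.hom.app _ (extend j F W.unop a).1) = α.hom.app _ a
      rw [← NatTrans.naturality_apply α.hom, (extend_spec j F W.unop a).1]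
    · exact (sectSupp_map_subset α _ _).trans (extend_spec j F W.unop a).2

/-- `j_! → f_!`. -/
def kE : extZero j ⟶ Lsh j :=
  Functor.whiskerRight (ν j) (extZero j) ≫ Functor.whiskerLeft (Lsh j) (extZeroAdj j).counit

theorem kE_unit (F : EtCoh.Ab U) :
    (extZeroAdj j).unit.app F ≫ (restrAlong j).map ((kE j).app F) = (ν j).app F := by
  show (extZeroAdj j).unit.app F ≫ (restrAlong j).map
    ((extZero j).map ((ν j).app F) ≫ (extZeroAdj j).counit.app ((Lsh j).obj F)) = _
  rw [Functor.map_comp, ← Category.assoc]
  erw [← (extZeroAdj j).unit.naturality ((ν j).app F)]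
  exact (Category.assoc _ _ _).trans ((congrArg (_ ≫ ·)
    ((extZeroAdj j).right_triangle_components ((Lsh j).obj F))).trans (Category.comp_id _))

theorem isIso_stalk_kE {Ω : Type u} [Field Ω] [IsAlgClosed Ω] (η : Spec (CommRingCat.of Ω) ⟶ X) :
    IsIso ((EtCoh.stalk η).map ((kE j).app F)) := by
  classical
  haveI : LocallyQuasiFinite j := inferInstance
  have hcomp : ∀ u ξ : Pts j η, EtSite.stalkExtZeroMap j η F u ≫ (EtCoh.stalk η).map ((kE j).app F) ≫
      stalkMap j η F ξ = if h : u = ξ then eqToHom (by rw [h]) else 0 := by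
    intro u ξ
    refine GrothendieckTopology.Point.presheafFiber_hom_ext _ fun W w => ?_
    ext a
    have h1 : (EtCoh.stalk η).map ((kE j).app F) (EtSite.stalkExtZeroMap j η F u
        ((Scheme.pointSmallEtale u.1).toPresheafFiber W w F.obj a)) =
        (Scheme.pointSmallEtale η).toPresheafFiber ((compEtale j).obj W) (EtSite.compPt j η u W w)
          ((Lsh j).obj F).obj (extend j F W a) := by
      refine (congrArg _ (ConcreteCategory.congr_hom (EtSite.germ_stalkExtZeroMap j η F u W w) a)).trans ?_
      refine ((Scheme.pointSmallEtale η).toPresheafFiber_naturality_apply ((kE j).app F).hom _ _ _).trans ?_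
      exact congrArg _ (ConcreteCategory.congr_hom (congrArg (fun m => m.hom.app (op W)) (kE_unit j F)) a)
    refine ((congrArg (stalkMap j η F ξ) h1).trans (stalkMap_germ j η F ξ _ _ _)).trans ?_
    by_cases hξ : u = ξ
    · subst hξ
      rw [dif_pos rfl]
      have e : (Scheme.pointSmallEtale u.1).fiber.map (graph j W) w =
          EtSite.liftPt j η u.1 u.2 ((compEtale j).obj W) (EtSite.compPt j η u W w) := by
        refine Over.OverMorphism.ext (pullback.hom_ext ?_ ?_)
        · refine Eq.trans ?_ (pullback.lift_fst _ _ _).symm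
          exact (Category.assoc _ _ _).trans ((congrArg (w.left ≫ ·) (graph_fst j W)).trans (Category.comp_id _))
        · refine Eq.trans ?_ (pullback.lift_snd _ _ _).symm
          exact (Category.assoc _ _ _).trans ((congrArg (w.left ≫ ·) (MorphismProperty.Over.w (graph j W))).trans (Over.w w))
      rw [← e]
      exact ((Scheme.pointSmallEtale u.1).toPresheafFiber_w_apply (graph j W) w F.obj _).symm.trans
        (congrArg _ (extend_spec j F W a).1)
    · rw [dif_neg hξ, Limits.comp_zero]
      refine (germ_ne_zero_mem_supp F _ _ _).2 fun h => hξ (Subtype.ext ?_)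
      let L := (EtSite.liftPt j η ξ.1 ξ.2 ((compEtale j).obj W) (EtSite.compPt j η u W w)).left
      have hr : Set.range L.base ⊆ Set.range (graph j W).left.base := by
        rintro _ ⟨o, rfl⟩
        exact (pt_eq_base L o).symm ▸ (extend_spec j F W a).2 h
      let φ := IsOpenImmersion.lift (graph j W).left L hr
      have hφ : φ ≫ (graph j W).left = L := IsOpenImmersion.lift_fac _ _ _
      have hw : φ = w.left := by
        have := congrArg (· ≫ prV j ((compEtale j).obj W)) hφ
        simp only [Category.assoc, graph_fst, Category.comp_id] at this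
        exact this.trans (pullback.lift_fst _ _ _)
      have h2 : L ≫ ((EtCoh.bc j).obj ((compEtale j).obj W)).hom = ξ.1 := pullback.lift_snd _ _ _
      rw [← h2, ← hφ, Category.assoc, MorphismProperty.Over.w (graph j W), hw]
      exact (Over.w w).symm
  haveI := EtSite.isIso_desc_stalkExtZeroMap j η F
  let d := Sigma.desc (EtSite.stalkExtZeroMap j η F) ≫ (EtCoh.stalk η).map ((kE j).app F)
  suffices IsIso d from IsIso.of_isIso_comp_left (Sigma.desc (EtSite.stalkExtZeroMap j η F)) _
  let r : ∀ ξ : Pts j η, (∐ fun u : Pts j η => (EtCoh.stalk u.1).obj F) ⟶ (EtCoh.stalk ξ.1).obj F :=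
    fun ξ => Sigma.desc fun u => if h : u = ξ then eqToHom (by rw [h]) else 0
  have hd : ∀ ξ, d ≫ stalkMap j η F ξ = r ξ := fun ξ => Sigma.hom_ext _ _ fun u => by
    simp only [d, r, Category.assoc, Sigma.ι_desc, Sigma.ι_desc_assoc]
    exact hcomp u ξ
  refine isIso_of_proj (stalkMap j η F) (stalkMap_injective j η F) (finite_stalkMap_support j η F)
    (stalkMap_single j η F) d fun ξ => ?_
  refine (hd ξ).trans ?_
  simp only [r]
  congr 1
  funext u
  split_ifs <;> rfl

/-- `j_! ≅ f_!`. -/
theorem nonempty_extZero_iso : Nonempty (extZero j ≅ lowerShriek j) := by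
  haveI : ∀ F, IsIso ((kE j).app F) := fun F => EtSite.isIso_of_exists_stalk _ fun y => by
    obtain ⟨η, hη⟩ := EtSite.exists_algClosed_pt (Y := X) y
    exact ⟨_, inferInstance, inferInstance, η, hη, isIso_stalk_kE j F η⟩
  haveI := NatIso.isIso_of_isIso_app (kE j)
  exact ⟨asIso (kE j) ≪≫ (lowerShriekIso j).symm⟩

end

end Groth.Agent.EtShriekLib
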