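import Groth.Agent.EtShriekLib.Supp
import Groth.Agent.EtMV.OpenFF

/-! Extension by zero along an open immersion inside the direct image: sections with closed support. -/

set_option autoImplicit false
set_option linter.style.haveILetI false
set_option backward.isDefEq.respectTransparency.types false
set_option backward.defeqAttrib.useBackward true

universe u

open CategoryTheory CategoryTheory.Limits AlgebraicGeometry Opposite EtShriek

namespace Groth.Agent.EtShriekLib

noncomputable section

section Range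

variable {X : Scheme.{u}} {A B : EtCoh.Ab X}

theorem injective_app (α : A ⟶ B) [Mono α] (W : X.Etaleᵒᵖ) : Function.Injective (α.hom.app W).hom :=
  (AddCommGrpCat.mono_iff_injective _).1
    (inferInstanceAs (Mono ((sheafToPresheaf _ _ ⋙ (evaluation _ _).obj W).map α)))

theorem mem_range_of_locally (α : A ⟶ B) [Mono α] (W : X.Etale) (s : B.obj.obj (op W))
    (h : ∀ x : W.left, ∃ (V : X.Etale) (g : V ⟶ W) (v : V.left), g.left.base v = x ∧
      ∃ a, α.hom.app (op V) a = B.obj.map g.op s) :
    s ∈ Set.range (α.hom.app (op W)).hom := by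
  let R : Sieve W :=
    { arrows := fun V g => ∃ a, α.hom.app (op V) a = B.obj.map g.op s
      downward_closed := fun {V V' f} hf k => by
        obtain ⟨a, ha⟩ := hf
        exact ⟨A.obj.map k.op a, by rw [NatTrans.naturality_apply α.hom, ha, op_comp, Functor.map_comp_apply]⟩ }
  have hR : R ∈ X.smallEtaleTopology W := EtSite.mem_smallEtaleTopology_of_points W R fun x => by
    obtain ⟨V, g, v, hv, hg⟩ := h x
    exact ⟨V, g, v, hg, hv⟩
  have hsh := ((isSheaf_iff_isSheaf_of_type _ _).1
    ((Presheaf.isSheaf_iff_isSheaf_forget _ _ (forget AddCommGrpCat)).1 A.property)) R hR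
  let x : Presieve.FamilyOfElements (A.obj ⋙ forget AddCommGrpCat) R.arrows := fun V g hg => hg.choose
  have hx : x.Compatible := fun V₁ V₂ Z g₁ g₂ f₁ f₂ h₁ h₂ w => by
    apply injective_app α (op Z)
    show α.hom.app (op Z) (A.obj.map g₁.op h₁.choose) = α.hom.app (op Z) (A.obj.map g₂.op h₂.choose)
    rw [NatTrans.naturality_apply α.hom, NatTrans.naturality_apply α.hom, h₁.choose_spec, h₂.choose_spec,
      ← Functor.map_comp_apply, ← Functor.map_comp_apply, ← op_comp, ← op_comp, w]
  refine ⟨hsh.amalgamate x hx, ?_⟩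
  refine Presheaf.IsSheaf.isSeparated B.property W R hR _ _ fun V g hg => ?_
  show B.obj.map g.op (α.hom.app (op W) (hsh.amalgamate x hx)) = B.obj.map g.op s
  rw [← NatTrans.naturality_apply α.hom]
  exact (congrArg _ (hsh.valid_glue hx g hg)).trans hg.choose_spec

end Range

section Tau

open EtMV

variable {U X : Scheme.{u}} (j : U ⟶ X) [IsOpenImmersion j]

/-- `j_! F → j_* F`. -/
def τ : shriek j ⟶ EtCoh.push j :=
  haveI := isIso_restrPushAdj_counit j
  Functor.whiskerRight (inv (restrPushAdj j).counit) (shriek j) ≫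
    Functor.whiskerLeft (EtCoh.push j) (shriekRestrAdj j).counit

theorem τ_app (F : EtCoh.Ab U) : ∃ e : F ⟶ (restrAlong j).obj ((EtCoh.push j).obj F), IsIso e ∧
    (τ j).app F = (shriek j).map e ≫ kS j ((EtCoh.push j).obj F) := by
  haveI := isIso_restrPushAdj_counit j
  refine ⟨(inv (restrPushAdj j).counit).app F, inferInstance, ?_⟩
  rw [τ]
  show (shriek j).map _ ≫ (shriekRestrAdj j).counit.app ((EtCoh.push j).obj F) = _
  rw [shriekRestrAdj_counit]
  rfl

instance mono_τ_app (F : EtCoh.Ab U) : Mono ((τ j).app F) := by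
  obtain ⟨e, _, he⟩ := τ_app j F
  rw [he]
  exact @mono_comp _ _ _ _ _ _ (inferInstance : Mono ((shriek j).map e)) _
    (inferInstance : Mono (kS j ((EtCoh.push j).obj F)))

theorem surjective_τ_app (F : EtCoh.Ab U) (V : X.Etale) (hV : Lands j V) :
    Function.Surjective (((τ j).app F).hom.app (op V)).hom := by
  obtain ⟨e, _, he⟩ := τ_app j F
  let G := (EtCoh.push j).obj F
  haveI := isIso_κ_app j G.obj V hV
  have hk : (CategoryTheory.toSheafify X.smallEtaleTopology _).app (op V) ≫ (kS j G).hom.app (op V) =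
      (κ j G.obj).app (op V) := by
    have := congr_app ((sheafificationAdjunction X.smallEtaleTopology AddCommGrpCat.{u + 1}).homEquiv _ G
      |>.apply_symm_apply (κ j G.obj)) (op V)
    rw [Adjunction.homEquiv_unit, Adjunction.homEquiv_counit] at this
    exact this
  have h1 : Function.Surjective ((kS j G).hom.app (op V)).hom := fun z => by
    refine ⟨((CategoryTheory.toSheafify X.smallEtaleTopology ((compEtale j).op.lan.obj
      ((compEtale j).op ⋙ G.obj))).app (op V)).hom ((inv ((κ j G.obj).app (op V))).hom z), ?_⟩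
    rw [← ConcreteCategory.comp_apply, hk, ← ConcreteCategory.comp_apply, IsIso.inv_hom_id]
    rfl
  have h2 : Function.Surjective (((shriek j).map e).hom.app (op V)).hom :=
    (AddCommGrpCat.epi_iff_surjective _).1
      (inferInstanceAs (Epi ((sheafToPresheaf _ _ ⋙ (evaluation _ _).obj (op V)).map ((shriek j).map e))))
  intro z
  obtain ⟨y, rfl⟩ := h1 z
  obtain ⟨x, rfl⟩ := h2 y
  exact ⟨x, ConcreteCategory.congr_hom (congrArg (fun m => m.hom.app (op V)) he) x⟩

/-- The image of the support in `W`. -/
abbrev suppIm (F : EtCoh.Ab U) (W : X.Etale) (t : EtCoh.sect F ((EtCoh.bc j).obj W)) : Set W.left :=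
  (prV j W).base '' sectSupp F ((EtCoh.bc j).obj W) t

omit [IsOpenImmersion j] in
theorem range_prV (W : X.Etale) : Set.range (prV j W).base = W.hom.base ⁻¹' Set.range j.base :=
  Scheme.Pullback.range_fst W.hom j

instance isOpenImmersion_prV (W : X.Etale) : IsOpenImmersion (prV j W) :=
  inferInstanceAs (IsOpenImmersion (pullback.fst W.hom j))

theorem lands_of_range {V : X.Etale} (h : Set.range V.hom.base ⊆ Set.range j.base) : Lands j V :=
  ⟨IsOpenImmersion.lift j V.hom h, IsOpenImmersion.lift_fac _ _ _⟩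

theorem mem_range_τ_iff (F : EtCoh.Ab U) (W : X.Etale) (t : EtCoh.sect F ((EtCoh.bc j).obj W)) :
    t ∈ Set.range (((τ j).app F).hom.app (op W)).hom ↔ IsClosed (suppIm j F W t) := by
  constructor
  · rintro ⟨a, rfl⟩
    set t := ((τ j).app F).hom.app (op W) a with ht
    rw [← isOpen_compl_iff, isOpen_iff_forall_mem_open]
    intro x hx
    by_cases hr : x ∈ Set.range (prV j W).base
    · refine ⟨(prV j W).base '' (sectSupp F ((EtCoh.bc j).obj W) t)ᶜ, ?_, ?_, ?_⟩
      · exact Set.image_compl_subset (prV j W).isOpenEmbedding.injective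
      · exact (prV j W).isOpenEmbedding.isOpenMap _ (isClosed_supp F _ t).isOpen_compl
      · obtain ⟨y, rfl⟩ := hr
        exact ⟨y, fun h => hx ⟨y, h, rfl⟩, rfl⟩
    · let Q := (compEtale j).op.lan.obj F.obj
      obtain ⟨V, g, v, ⟨b, hb⟩, hv⟩ := exists_of_mem_topology
        (Presheaf.imageSieve_mem X.smallEtaleTopology (CategoryTheory.toSheafify X.smallEtaleTopology Q) a) x
      have hnl : ¬ Lands j V := by
        rintro ⟨c, hc⟩
        apply hr
        rw [range_prV, Set.mem_preimage, ← hv, ← Scheme.Hom.comp_apply, MorphismProperty.Over.w g, ← hc,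
          Scheme.Hom.comp_apply]
        exact Set.mem_range_self _
      haveI := etale_left g
      refine ⟨Set.range g.left.base, ?_, g.left.isOpenMap.isOpen_range, ⟨v, hv⟩⟩
      rintro x' ⟨v', rfl⟩ ⟨y, hy, hy'⟩
      obtain ⟨z, hz, -⟩ := Scheme.Pullback.exists_preimage_pullback (f := prV j W) (g := g.left) y v' hy'
      have sq := EtCoh.isPullback_bc_map j g
      refine hy ((EtCoh.bc j).obj V) ((EtCoh.bc j).map g) ⟨sq.isoPullback.inv z, ?_⟩ ?_
      · rw [← hz, ← Scheme.Hom.comp_apply, IsPullback.isoPullback_inv_fst]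
      · have hb0 : b = 0 :=
          @Subsingleton.elim _ (AddCommGrpCat.subsingleton_of_isZero (isZero_lan_app j F.obj V hnl)) _ _
        show ((EtCoh.push j).obj F).obj.map g.op t = 0
        rw [ht, ← NatTrans.naturality_apply ((τ j).app F).hom]
        exact (congrArg _ ((hb.symm.trans (by rw [hb0, map_zero]; rfl)))).trans (map_zero _)
  · intro hC
    refine mem_range_of_locally ((τ j).app F) W t fun x => ?_
    by_cases hr : x ∈ Set.range (prV j W).base
    · let O := (prV j W).opensRange
      refine ⟨openObj W O, openHom W O, ⟨x, hr⟩, rfl, ?_⟩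
      refine surjective_τ_app j F _ (lands_of_range j ?_) _
      rintro _ ⟨y, rfl⟩
      have : y.1 ∈ Set.range (prV j W).base := y.2
      rw [range_prV] at this
      exact this
    · let O : W.left.Opens := ⟨(suppIm j F W t)ᶜ, hC.isOpen_compl⟩
      refine ⟨openObj W O, openHom W O, ⟨x, fun h => hr (Set.image_subset_range _ _ h)⟩, rfl, 0, ?_⟩
      rw [map_zero]
      symm
      refine map_eq_zero_of_disjoint F ((EtCoh.bc j).map (openHom W O)) t ?_
      rw [Set.disjoint_left]
      rintro _ ⟨z, rfl⟩ hz
      have := congrArg (fun m => m.base z) (EtCoh.isPullback_bc_map j (openHom W O)).w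
      exact ((prV j (openObj W O)).base z).2 ⟨_, hz, this⟩

theorem isProperOver_iff_suppIm (F : EtCoh.Ab U) (W : X.Etale)
    {V : Scheme.{u}} (q : W.left ⟶ V) [IsProper q] {P : U.Etale} (φ : P ⟶ (EtCoh.bc j).obj W) [IsIso φ]
    (π : P.left ⟶ V) [LocallyOfFiniteType π] (hπ : (φ.left ≫ prV j W) ≫ q = π)
    (t : EtCoh.sect F ((EtCoh.bc j).obj W)) :
    ClSub.IsProperOver π (sectSupp F P (F.obj.map φ.op t)) ↔ IsClosed (suppIm j F W t) := by
  let e := asIso φ
  haveI : IsIso φ.left :=
    ((MorphismProperty.Over.forget EtCoh.etaleMP ⊤ U ⋙ Over.forget U).mapIso e).isIso_hom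
  rw [isProperOver_iff_isClosed_image (φ.left ≫ prV j W) q hπ (isClosed_supp F P _), supp_map,
    Scheme.Hom.comp_base, TopCat.coe_comp, Set.image_comp,
    Set.image_preimage_eq _ φ.left.surjective]

end Tau

end

end Groth.Agent.EtShriekLib
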