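import Groth.Agent.EtShriekLib.OpenImm

/-! Direct image with proper support through an open immersion into a proper scheme. -/

set_option autoImplicit false
set_option linter.style.haveILetI false
set_option backward.isDefEq.respectTransparency.types false
set_option backward.defeqAttrib.useBackward true

universe u

open CategoryTheory CategoryTheory.Limits AlgebraicGeometry Opposite EtShriek
open Groth.Agent.EtMV (shriek shriekRestrAdj)

namespace Groth.Agent.EtShriekLib

noncomputable section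

variable {X Xb Y : Scheme.{u}} (j : X ⟶ Xb) [IsOpenImmersion j] (fb : Xb ⟶ Y)

/-- The comparison `bc (j ≫ fb) V ⟶ bc j (bc fb V)`. -/
abbrev φc (V : Y.Etale) : (EtCoh.bc (j ≫ fb)).obj V ⟶ (EtCoh.bc j).obj ((EtCoh.bc fb).obj V) :=
  (MorphismProperty.Over.pullbackComp (P := EtCoh.etaleMP) (Q := ⊤) j fb).hom.app V

/-- `fb_* j_! F → (j ≫ fb)_* F`, on presheaves. -/
def m : shriek j ⋙ EtCoh.push fb ⋙ sheafToPresheaf _ _ ⟶ EtCoh.push (j ≫ fb) ⋙ sheafToPresheaf _ _ :=
  Functor.whiskerRight (Functor.whiskerRight (τ j) (EtCoh.push fb) ≫ (EtCoh.pushComp fb j).hom)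
    (sheafToPresheaf _ _)

theorem m_app (F : EtCoh.Ab X) (V : Y.Etaleᵒᵖ) (a : ((EtCoh.push fb).obj ((shriek j).obj F)).obj.obj V) :
    (((m j fb).app F).app V).hom a =
      F.obj.map (φc j fb V.unop).op (((τ j).app F).hom.app (op ((EtCoh.bc fb).obj V.unop)) a) :=
  rfl

omit [IsOpenImmersion j] in
theorem isIso_φc (V : Y.Etale) : IsIso (φc j fb V) :=
  ((MorphismProperty.Over.pullbackComp (P := EtCoh.etaleMP) (Q := ⊤) j fb).app V).isIso_hom

omit [IsOpenImmersion j] in
theorem bijective_map_φc (F : EtCoh.Ab X) (V : Y.Etale) : Function.Bijective (F.obj.map (φc j fb V).op).hom := by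
  let i := F.obj.mapIso ((MorphismProperty.Over.pullbackComp (P := EtCoh.etaleMP) (Q := ⊤) j fb).app V).op
  exact ConcreteCategory.bijective_of_isIso i.hom

theorem injective_m (F : EtCoh.Ab X) (V : Y.Etaleᵒᵖ) : Function.Injective (((m j fb).app F).app V).hom := by
  intro a b h
  rw [m_app, m_app] at h
  exact injective_app ((τ j).app F) _ ((bijective_map_φc j fb F V.unop).1 h)

variable [IsProper fb]

theorem mem_range_m (F : EtCoh.Ab X) (V : Y.Etale)
    (s : EtCoh.sect F ((EtCoh.bc (j ≫ fb)).obj V)) :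
    s ∈ Set.range (((m j fb).app F).app (op V)).hom ↔ s ∈ shriekSubgroup (j ≫ fb) F V := by
  haveI := isIso_φc j fb V
  haveI : IsProper (prV fb V) := inferInstanceAs (IsProper (pullback.fst V.hom fb))
  obtain ⟨t, rfl⟩ := (bijective_map_φc j fb F V).2 s
  rw [mem_shriekSubgroup_iff, isProperOver_iff_suppIm j F ((EtCoh.bc fb).obj V) (prV fb V) (φc j fb V)
    (prV (j ≫ fb) V) (by rw [Category.assoc]; exact MorphismProperty.Over.pullbackComp_left_fst_fst j fb V) t,
    ← mem_range_τ_iff]
  constructor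
  · rintro ⟨a, ha⟩
    rw [m_app] at ha
    exact ⟨a, (bijective_map_φc j fb F V).1 ha⟩
  · rintro ⟨a, ha⟩
    exact ⟨a, by rw [m_app]; exact congrArg _ ha⟩

/-- `fb_* j_! F` is the presheaf of sections with proper support. -/
def γ : shriek j ⋙ EtCoh.push fb ⋙ sheafToPresheaf _ _ ⟶ lowerShriekPreFunctor (j ≫ fb) where
  app F :=
    { app := fun V => AddCommGrpCat.ofHom ((((m j fb).app F).app V).hom.codRestrict
        (shriekSubgroup (j ≫ fb) F V.unop) fun a => (mem_range_m j fb F V.unop _).1 ⟨a, rfl⟩)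
      naturality := fun V V' k => by
        ext a
        exact Subtype.ext (NatTrans.naturality_apply ((m j fb).app F) k a) }
  naturality F G α := by
    ext V a
    exact Subtype.ext (ConcreteCategory.congr_hom (congr_app ((m j fb).naturality α) V) a)

instance isIso_γ : IsIso (γ j fb) := by
  haveI : ∀ F, IsIso ((γ j fb).app F) := fun F => by
    haveI : ∀ V, IsIso (((γ j fb).app F).app V) := fun V => by
      refine (ConcreteCategory.isIso_iff_bijective _).2 ⟨fun a b h => ?_, fun s => ?_⟩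
      · exact injective_m j fb F V (congrArg Subtype.val h)
      · obtain ⟨a, ha⟩ := (mem_range_m j fb F V.unop s.1).2 s.2
        exact ⟨a, Subtype.ext ha⟩
    exact NatIso.isIso_of_isIso_app _
  exact NatIso.isIso_of_isIso_app _

theorem nonempty_lowerShriek_iso [JCont j] :
    Nonempty (lowerShriek (j ≫ fb) ≅ extZero j ⋙ EtCoh.push fb) :=
  ⟨Functor.isoWhiskerRight (asIso (γ j fb)).symm (presheafToSheaf Y.smallEtaleTopology AddCommGrpCat.{u + 1}) ≪≫
    Functor.isoWhiskerLeft (shriek j ⋙ EtCoh.push fb)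
      (asIso (sheafificationAdjunction Y.smallEtaleTopology AddCommGrpCat.{u + 1}).counit) ≪≫
    Functor.isoWhiskerRight ((shriekRestrAdj j).leftAdjointUniq (extZeroAdj j)) (EtCoh.push fb)⟩

theorem nonempty_H0c_equiv {k : Type u} [Field k] (pb : Xb ⟶ Spec (CommRingCat.of k)) [IsProper pb]
    (p : X ⟶ Spec (CommRingCat.of k)) [LocallyOfFiniteType p] (hp : p = j ≫ pb) [JCont j] (F : EtCoh.Ab X) :
    Nonempty (H0c p F ≃+ EtCoh.sect ((extZero j).obj F) (EtCoh.top Xb)) := by
  haveI : IsIso (pullback.snd (𝟙 Xb) j) := inferInstance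
  let ψ : EtCoh.top X ≅ (EtCoh.bc j).obj (EtCoh.top Xb) :=
    MorphismProperty.Over.isoMk (asIso (pullback.snd (𝟙 Xb) j)).symm (by
      show inv (pullback.snd (𝟙 Xb) j) ≫ pullback.snd (𝟙 Xb) j = 𝟙 X
      exact IsIso.inv_hom_id _)
  have hπ : (ψ.hom.left ≫ prV j (EtCoh.top Xb)) ≫ pb = p := by
    rw [hp]
    refine congrArg (· ≫ pb) ?_
    show inv (pullback.snd (𝟙 Xb) j) ≫ pullback.fst (𝟙 Xb) j = j
    rw [IsIso.inv_comp_eq, ← pullback.condition, Category.comp_id]
  let r : ((shriek j).obj F).obj.obj (op (EtCoh.top Xb)) →+ EtCoh.sect F (EtCoh.top X) :=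
    (F.obj.map ψ.hom.op).hom.comp (((τ j).app F).hom.app (op (EtCoh.top Xb))).hom
  have hb : Function.Bijective (F.obj.map ψ.hom.op).hom := by
    let i := F.obj.mapIso ψ.op
    exact ConcreteCategory.bijective_of_isIso i.hom
  have hr : Function.Injective r := hb.1.comp (injective_app ((τ j).app F) _)
  haveI : IsProper (X := (EtCoh.top Xb).left) pb := ‹IsProper pb›
  haveI : LocallyOfFiniteType (X := (EtCoh.top X).left) p := ‹LocallyOfFiniteType p›
  have hH : H0c p F = r.range := by
    have hS : {s | HasProperSupport F (EtCoh.top X) s p} = (r.range : Set _) := by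
      ext s
      obtain ⟨t, rfl⟩ := hb.2 s
      have hkey := (isProperOver_iff_suppIm j F (EtCoh.top Xb) pb ψ.hom p hπ t).trans
        (mem_range_τ_iff j F (EtCoh.top Xb) t).symm
      constructor
      · rintro ⟨Z, hZ, hpr⟩
        obtain ⟨a, ha⟩ := hkey.1 (ProperOver.mono hpr (isClosed_supp F _ _) hZ)
        exact ⟨a, congrArg (F.obj.map ψ.hom.op).hom ha⟩
      · rintro ⟨a, ha⟩
        exact ⟨_, subset_rfl, hkey.2 ⟨a, hb.1 ha⟩⟩
    rw [H0c, hS, AddSubgroup.closure_eq]
  exact ⟨(AddEquiv.addSubgroupCongr hH).trans ((AddMonoidHom.ofInjective hr).symm.trans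
    (((sheafToPresheaf _ _ ⋙ (evaluation _ _).obj (op (EtCoh.top Xb))).mapIso
      (((shriekRestrAdj j).leftAdjointUniq (extZeroAdj j)).app F)).addCommGroupIsoToAddEquiv))⟩

end

end Groth.Agent.EtShriekLib
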