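import Groth.Agent.EtShriekLib.Stalk

/-! `(f_! F)_η = ⨁ F_ξ`, exactness and adjointness of `f_!` for locally quasi-finite `f`. -/

set_option autoImplicit false
set_option linter.style.haveILetI false
set_option backward.isDefEq.respectTransparency.types false
set_option backward.defeqAttrib.useBackward true

universe w u

open CategoryTheory CategoryTheory.Limits AlgebraicGeometry Opposite EtShriek

namespace Groth.Agent.EtShriekLib

noncomputable section

section PiSum

variable {ι : Type u} {M : ι → AddCommGrpCat.{u + 1}} {A : AddCommGrpCat.{u + 1}} (π : ∀ i, A ⟶ M i)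

open scoped Classical in
theorem isIso_of_proj (hinj : ∀ p, (∀ i, π i p = 0) → p = 0)
    (hfin : ∀ p, {i | π i p ≠ 0}.Finite)
    (hsingle : ∀ i (a : M i), ∃ p, π i p = a ∧ ∀ j, j ≠ i → π j p = 0)
    (δ : ∐ M ⟶ A)
    (hδ : ∀ i, δ ≫ π i = Sigma.desc fun k => if h : k = i then eqToHom (congrArg M h) else 0) :
    IsIso δ := by
  choose φ hφ hφ' using hsingle
  have huniq : ∀ i a p, π i p = a → (∀ j, j ≠ i → π j p = 0) → p = φ i a := fun i a p h h' =>
    sub_eq_zero.1 (hinj _ fun j => by
      rw [map_sub]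
      by_cases hj : j = i
      · subst hj; rw [h, hφ, sub_self]
      · rw [h' j hj, hφ' i a j hj, sub_self])
  let r : ∀ i, ∐ M ⟶ M i := fun i => Sigma.desc fun k => if h : k = i then eqToHom (congrArg M h) else 0
  have hr : ∀ i, δ ≫ π i = r i := hδ
  classical
  have hι : ∀ i (a : M i), δ (Sigma.ι M i a) = φ i a := fun i a => by
    have hj : ∀ j, π j (δ (Sigma.ι M i a)) = (Sigma.ι M i ≫ r j) a := fun j => by
      rw [← hr j]; rfl
    refine huniq i a _ ((hj i).trans ?_) fun j hji => (hj j).trans ?_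
    · simp [r]
    · simp [r, Ne.symm hji]
  exact (ConcreteCategory.isIso_iff_bijective _).2 ⟨(injective_iff_map_eq_zero _).2 fun x hx => by
      let K : AddSubgroup ↑(∐ M) :=
        { carrier := {y | ∃ S : Finset ι, ∀ T, S ⊆ T → y = ∑ i ∈ T, Sigma.ι M i (r i y)}
          zero_mem' := ⟨∅, fun T _ => by simp⟩
          add_mem' := by
            rintro a b ⟨S, hS⟩ ⟨S', hS'⟩
            refine ⟨S ∪ S', fun T hT => ?_⟩
            conv_lhs => rw [hS T (Finset.union_subset_left hT), hS' T (Finset.union_subset_right hT)]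
            simp only [map_add, Finset.sum_add_distrib]
          neg_mem' := by
            rintro a ⟨S, hS⟩
            refine ⟨S, fun T hT => ?_⟩
            conv_lhs => rw [hS T hT]
            simp only [map_neg, Finset.sum_neg_distrib] }
      have hK : AddCommGrpCat.ofHom (QuotientAddGroup.mk' K) = 0 := Sigma.hom_ext _ _ fun k => by
        ext a
        refine (QuotientAddGroup.eq_zero_iff _).2 ⟨{k}, fun T hT => ?_⟩
        rw [Finset.sum_eq_single k]
        · have e : Sigma.ι M k ≫ r k = 𝟙 _ := by simp [r]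
          exact (congrArg (Sigma.ι M k) (ConcreteCategory.congr_hom e a)).symm
        · intro i _ hi
          have e : Sigma.ι M k ≫ r i = 0 := by simp [r, Ne.symm hi]
          exact (congrArg (Sigma.ι M i) (ConcreteCategory.congr_hom e a)).trans (map_zero _)
        · exact fun h => absurd (hT (Finset.mem_singleton_self k)) h
      obtain ⟨S, hS⟩ := (QuotientAddGroup.eq_zero_iff x).1
        (DFunLike.congr_fun (congrArg AddCommGrpCat.Hom.hom hK) x)
      rw [hS S subset_rfl]
      refine Finset.sum_eq_zero fun i _ => ?_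
      rw [← hr i, ConcreteCategory.comp_apply, hx, map_zero, map_zero],
    fun p => by
      refine ⟨∑ i ∈ (hfin p).toFinset, Sigma.ι M i (π i p), sub_eq_zero.1 (hinj _ fun i => ?_)⟩
      rw [map_sub, sub_eq_zero, map_sum, map_sum]
      have hterm : ∀ k, π i (δ (Sigma.ι M k (π k p))) = π i (φ k (π k p)) := fun k =>
        congrArg (π i) (hι k _)
      simp only [hterm]
      rw [Finset.sum_eq_single i]
      · exact hφ i _
      · exact fun k _ hk => hφ' k _ i (Ne.symm hk)
      · intro h
        rw [hφ]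
        simpa using h⟩

theorem nonempty_coproduct_iso (hinj : ∀ p, (∀ i, π i p = 0) → p = 0)
    (hfin : ∀ p, {i | π i p ≠ 0}.Finite)
    (hsingle : ∀ i (a : M i), ∃ p, π i p = a ∧ ∀ j, j ≠ i → π j p = 0) :
    Nonempty (A ≅ ∐ M) := by
  classical
  choose φ hφ hφ' using hsingle
  have hadd : ∀ i a b, φ i (a + b) = φ i a + φ i b := fun i a b => sub_eq_zero.1 (hinj _ fun j => by
    by_cases hj : j = i
    · subst hj; simp [map_add, map_sub, hφ]
    · simp [map_add, map_sub, hφ' i _ j hj])
  let δ : ∐ M ⟶ A := Sigma.desc fun i => AddCommGrpCat.ofHom (AddMonoidHom.mk' (φ i) (hadd i))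
  haveI := isIso_of_proj π hinj hfin (fun i a => ⟨φ i a, hφ i a, hφ' i a⟩) δ fun i => Sigma.hom_ext _ _ fun k => by
    ext a
    by_cases hk : k = i
    · subst hk
      simp only [δ, Sigma.ι_desc_assoc, Sigma.ι_desc, dite_true]
      exact hφ k a
    · simp only [δ, Sigma.ι_desc_assoc, Sigma.ι_desc, hk, dite_false]
      exact hφ' k a i (Ne.symm hk)
  exact ⟨(asIso δ).symm⟩

end PiSum

variable {X Y : Scheme.{u}} (f : X ⟶ Y) [LocallyOfFiniteType f]

theorem nonempty_stalk_lowerShriek_iso [IsSeparated f] [LocallyQuasiFinite f] (F : EtCoh.Ab X)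
    {Ω : Type u} [Field Ω] [IsAlgClosed Ω] (η : Spec (CommRingCat.of Ω) ⟶ Y) :
    Nonempty ((EtCoh.stalk η).obj ((lowerShriek f).obj F) ≅
      ∐ fun ξ : Pts f η => (EtCoh.stalk ξ.1).obj F) := by
  obtain ⟨e⟩ := nonempty_coproduct_iso (stalkMap f η F) (stalkMap_injective f η F)
    (finite_stalkMap_support f η F) (stalkMap_single f η F)
  exact ⟨(EtCoh.stalk η).mapIso ((lowerShriekIso f).app F) ≪≫ e⟩

instance additive_Lsh : (Lsh f).Additive where
  map_add := Sheaf.hom_ext (NatTrans.ext (funext fun _ => AddCommGrpCat.hom_ext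
    (AddMonoidHom.ext fun _ => Subtype.ext rfl)))

theorem stalkMap_naturality {Ω : Type u} [Field Ω] [IsAlgClosed Ω] (η : Spec (CommRingCat.of Ω) ⟶ Y)
    {F G : EtCoh.Ab X} (a : F ⟶ G) (ξ : Pts f η) (p : (EtCoh.stalk η).obj ((Lsh f).obj F)) :
    stalkMap f η G ξ ((EtCoh.stalk η).map ((Lsh f).map a) p) =
      (EtCoh.stalk ξ.1).map a (stalkMap f η F ξ p) := by
  have h : (EtCoh.stalk η).map ((Lsh f).map a) ≫ stalkMap f η G ξ =
      stalkMap f η F ξ ≫ (EtCoh.stalk ξ.1).map a := by
    have hn := (EtSite.germMap f η ξ.1 ξ.2).naturality a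
    simp only [Functor.comp_map] at hn
    simp only [stalkMap, ← Functor.map_comp_assoc, (ιL f).naturality a, Functor.map_comp, Category.assoc, hn]
  exact ConcreteCategory.congr_hom h p

variable [IsSeparated f] [LocallyQuasiFinite f]

theorem stalk_shortExact {S : ShortComplex (EtCoh.Ab X)} (hS : S.ShortExact)
    {Ω : Type u} [Field Ω] [IsAlgClosed Ω] (η : Spec (CommRingCat.of Ω) ⟶ Y) :
    ((S.map (Lsh f)).map (EtCoh.stalk η)).ShortExact := by
  have hs : ∀ ξ : Pts f η, (S.map (EtCoh.stalk ξ.1)).ShortExact := fun ξ => hS.map_of_exact _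
  have hinj : ∀ ξ : Pts f η, Function.Injective ((EtCoh.stalk ξ.1).map S.f) := fun ξ =>
    (AddCommGrpCat.mono_iff_injective _).1 (hs ξ).mono_f
  have hsurj : ∀ ξ : Pts f η, Function.Surjective ((EtCoh.stalk ξ.1).map S.g) := fun ξ =>
    (AddCommGrpCat.epi_iff_surjective _).1 (hs ξ).epi_g
  have sum : ∀ {A : EtCoh.Ab X} (q : ∀ ξ : Pts f η, (EtCoh.stalk ξ.1).obj A), {ξ | q ξ ≠ 0}.Finite →
      ∃ p, ∀ ξ, stalkMap f η A ξ p = q ξ := by
    classical
    intro A q hq
    choose s hs₁ hs₂ using fun ξ => stalkMap_single f η A ξ (q ξ)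
    refine ⟨∑ ξ ∈ hq.toFinset, s ξ, fun ξ => ?_⟩
    rw [map_sum, Finset.sum_eq_single ξ]
    · exact hs₁ ξ
    · exact fun k _ hk => hs₂ k ξ (Ne.symm hk)
    · intro h
      rw [hs₁]
      simpa using h
  refine { exact := ?_, mono_f := ?_, epi_g := ?_ }
  · rw [ShortComplex.ab_exact_iff]
    intro p hp
    have hex : ∀ ξ, ∃ q, (EtCoh.stalk ξ.1).map S.f q = stalkMap f η S.X₂ ξ p := fun ξ =>
      (ShortComplex.ab_exact_iff _).1 (hs ξ).exact _
        ((stalkMap_naturality f η S.g ξ p).symm.trans ((congrArg _ hp).trans (map_zero _)))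
    choose q hq using hex
    obtain ⟨r, hr⟩ := sum q ((finite_stalkMap_support f η S.X₂ p).subset fun ξ h h0 => h (hinj ξ (by
      rw [hq, h0, map_zero])))
    refine ⟨r, sub_eq_zero.1 (stalkMap_injective f η S.X₂ _ fun ξ => ?_)⟩
    refine (map_sub (stalkMap f η S.X₂ ξ).hom _ _).trans (sub_eq_zero.2 ?_)
    exact (stalkMap_naturality f η S.f ξ r).trans ((congrArg _ (hr ξ)).trans (hq ξ))
  · refine (AddCommGrpCat.mono_iff_injective _).2 ((injective_iff_map_eq_zero _).2 fun p hp =>
      stalkMap_injective f η S.X₁ p fun ξ => hinj ξ ?_)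
    exact (stalkMap_naturality f η S.f ξ p).symm.trans ((congrArg _ hp).trans ((map_zero _).trans (map_zero _).symm))
  · refine (AddCommGrpCat.epi_iff_surjective _).2 fun p => ?_
    classical
    choose q hq using fun ξ => hsurj ξ (stalkMap f η S.X₃ ξ p)
    obtain ⟨r, hr⟩ := sum (fun ξ => if stalkMap f η S.X₃ ξ p = 0 then 0 else q ξ)
      ((finite_stalkMap_support f η S.X₃ p).subset fun ξ h h0 => h (if_pos h0))
    refine ⟨r, sub_eq_zero.1 (stalkMap_injective f η S.X₃ _ fun ξ => ?_)⟩
    refine (map_sub (stalkMap f η S.X₃ ξ).hom _ _).trans (sub_eq_zero.2 ?_)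
    refine (stalkMap_naturality f η S.g ξ r).trans ((congrArg _ (hr ξ)).trans ?_)
    split_ifs with h
    · rw [map_zero, h]
    · exact hq ξ

theorem exact_Lsh : PreservesFiniteLimits (Lsh f) ∧ PreservesFiniteColimits (Lsh f) := by
  refine ((Functor.exact_tfae (Lsh f)).out 0 3).1 fun S hS => ?_
  have h := fun y : Y => (EtSite.exists_algClosed_pt (Y := Y) y).choose_spec
  refine { exact := ?_, mono_f := ?_, epi_g := ?_ }
  · rw [ShortComplex.exact_iff_isZero_homology, IsZero.iff_id_eq_zero]
    haveI : Mono (0 : (S.map (Lsh f)).homology ⟶ (S.map (Lsh f)).homology) :=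
      EtSite.mono_of_exists_stalk _ fun y => ⟨_, inferInstance, inferInstance, _, h y, fun a b _ => by
        haveI := AddCommGrpCat.subsingleton_of_isZero (IsZero.of_iso
          ((ShortComplex.exact_iff_isZero_homology _).1 (stalk_shortExact f hS (EtSite.exists_algClosed_pt (Y := Y) y).choose).exact)
          ((S.map (Lsh f)).mapHomologyIso (EtCoh.stalk (EtSite.exists_algClosed_pt (Y := Y) y).choose)).symm)
        exact Subsingleton.elim a b⟩
    rw [← cancel_mono (0 : (S.map (Lsh f)).homology ⟶ (S.map (Lsh f)).homology)]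
    simp
  · exact EtSite.mono_of_exists_stalk _ fun y => ⟨_, inferInstance, inferInstance, _, h y,
      (AddCommGrpCat.mono_iff_injective _).1 (stalk_shortExact f hS _).mono_f⟩
  · exact EtSite.epi_of_exists_stalk _ fun y => ⟨_, inferInstance, inferInstance, _, h y,
      (AddCommGrpCat.epi_iff_surjective _).1 (stalk_shortExact f hS _).epi_g⟩

theorem exact_lowerShriek : PreservesFiniteLimits (lowerShriek f) ∧ PreservesFiniteColimits (lowerShriek f) := by
  obtain ⟨h₁, h₂⟩ := exact_Lsh f
  exact ⟨preservesFiniteLimits_of_natIso (lowerShriekIso f).symm,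
    preservesFiniteColimits_of_natIso (lowerShriekIso f).symm⟩

theorem isLeftAdjoint_lowerShriek : (lowerShriek f).IsLeftAdjoint := by
  haveI : (Lsh f).IsLeftAdjoint := by
    haveI := (exact_Lsh f).2
    haveI : ∀ J : Type (u + 1), PreservesColimitsOfShape (Discrete J) (Lsh f) := preservesColimitsOfShape_Lsh f
    haveI : PreservesColimitsOfSize.{u + 1, u + 1} (Lsh f) :=
      preservesColimits_of_preservesCoequalizers_and_coproducts _
    haveI : WellPowered.{u + 1} (EtCoh.Ab X)ᵒᵖ := inferInstance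
    exact isLeftAdjoint_of_preservesColimits_of_isSeparating
      (isSeparator_separator (EtCoh.Ab X)) (Lsh f)
  exact Functor.isLeftAdjoint_of_iso (lowerShriekIso f).symm

end

end Groth.Agent.EtShriekLib
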