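import Groth.Agent.EtShriekLib.TensorStalk
import Groth.Agent.EtShriekLib.StalkIso

/-! The projection formula for `f_!`, `f` separated and locally quasi-finite. -/

set_option autoImplicit false
set_option linter.style.haveILetI false
set_option backward.isDefEq.respectTransparency.types false
set_option backward.defeqAttrib.useBackward true
set_option backward.isDefEq.respectTransparency false

universe u

open CategoryTheory CategoryTheory.Limits AlgebraicGeometry Opposite EtShriek TensorProduct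

namespace Groth.Agent.EtShriekLib

noncomputable section

section Alg

variable {ι : Type u} {A B : AddCommGrpCat.{u + 1}} {M : ι → AddCommGrpCat.{u + 1}} (π : ∀ i, A ⟶ M i)
  (φ : ∀ i, M i →+ A)

/-- `rTensor` for maps of groups. -/
abbrev rT {A' B' C' : Type (u + 1)} [AddCommGroup A'] [AddCommGroup B'] [AddCommGroup C'] (g : A' →+ C') :
    A' ⊗[ℤ] B' →+ C' ⊗[ℤ] B' := (LinearMap.rTensor B' g.toIntLinearMap).toAddMonoidHom

theorem exists_proj_sum (h₁ : ∀ i a, π i (φ i a) = a) (h₂ : ∀ i j a, j ≠ i → π j (φ i a) = 0)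
    (hinj : ∀ p, (∀ i, π i p = 0) → p = 0) (hfin : ∀ p, {i | π i p ≠ 0}.Finite) (p : A) :
    ∃ S : Finset ι, ∀ T, S ⊆ T → p = ∑ i ∈ T, φ i (π i p) := by
  classical
  refine ⟨(hfin p).toFinset, fun T hT => sub_eq_zero.1 (hinj _ fun j => ?_)⟩
  rw [map_sub, map_sum, sub_eq_zero]
  by_cases hj : j ∈ T
  · rw [Finset.sum_eq_single j (fun i _ hi => h₂ i j _ (Ne.symm hi)) (fun h => absurd hj h), h₁]
  · rw [Finset.sum_eq_zero fun i hi => h₂ i j _ (fun h => hj (by rw [h]; exact hi))]
    by_contra h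
    exact hj (hT ((hfin p).mem_toFinset.2 h))

theorem tensor_eq_zero_of_proj (h₁ : ∀ i a, π i (φ i a) = a) (h₂ : ∀ i j a, j ≠ i → π j (φ i a) = 0)
    (hinj : ∀ p, (∀ i, π i p = 0) → p = 0) (hfin : ∀ p, {i | π i p ≠ 0}.Finite) (x : A ⊗[ℤ] B)
    (hx : ∀ i, rT (π i).hom x = 0) : x = 0 := by
  classical
  obtain ⟨S, hS⟩ : ∃ S : Finset ι, ∀ T, S ⊆ T → x = ∑ i ∈ T, rT (φ i) (rT (π i).hom x) := by
    clear hx
    induction x using TensorProduct.induction_on with
    | zero => exact ⟨∅, fun T _ => by simp⟩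
    | tmul a b =>
      obtain ⟨S, hS⟩ := exists_proj_sum π φ h₁ h₂ hinj hfin a
      refine ⟨S, fun T hT => ?_⟩
      conv_lhs => rw [hS T hT, TensorProduct.sum_tmul]
      rfl
    | add a b ha hb =>
      obtain ⟨S, hS⟩ := ha
      obtain ⟨S', hS'⟩ := hb
      refine ⟨S ∪ S', fun T hT => ?_⟩
      conv_lhs => rw [hS T (Finset.union_subset_left hT), hS' T (Finset.union_subset_right hT)]
      simp only [map_add, Finset.sum_add_distrib]
  rw [hS S subset_rfl]
  exact Finset.sum_eq_zero fun i _ => by rw [hx i, map_zero]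

end Alg

variable {X Y : Scheme.{u}} (f : X ⟶ Y) [LocallyOfFiniteType f] (F : EtCoh.Ab X) (G : EtCoh.Ab Y)

theorem tmulSect_map {U V : X.Etale} (g : V ⟶ U) (A B : EtCoh.Ab X) (m : EtCoh.sect A U) (n : EtCoh.sect B U) :
    ((EtTens.tensorBi.obj A).obj B).obj.map g.op (tmulSect A B U m n) =
      tmulSect A B V (A.obj.map g.op m) (B.obj.map g.op n) :=
  (NatTrans.naturality_apply (CategoryTheory.toSheafify X.smallEtaleTopology (EtTens.tensorObj A.obj B.obj))
    g.op (m ⊗ₜ[ℤ] n)).symm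

theorem supp_tmulSect (A B : EtCoh.Ab X) (U : X.Etale) (m : EtCoh.sect A U) (n : EtCoh.sect B U) :
    sectSupp ((EtTens.tensorBi.obj A).obj B) U (tmulSect A B U m n) ⊆ sectSupp A U m := by
  intro x hx W g hw h0
  apply hx W g hw
  rw [tmulSect_map, h0, tmulSect, TensorProduct.zero_tmul]
  exact map_zero _

/-- The target sheaf. -/
abbrev H : EtCoh.Ab X := (EtTens.tensorBi.obj F).obj ((EtCoh.pull f).obj G)

/-- `(s, n) ↦ s ⊗ f^* n`. -/
def projMap (V : Y.Etale) :
    EtCoh.sect ((Lsh f).obj F) V ⊗[ℤ] EtCoh.sect G V →+ EtCoh.sect (H f F G) ((EtCoh.bc f).obj V) :=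
  ((CategoryTheory.toSheafify X.smallEtaleTopology
      (EtTens.tensorObj F.obj ((EtCoh.pull f).obj G).obj)).app (op ((EtCoh.bc f).obj V))).hom.comp
    (TensorProduct.map (((ιL f).app F).hom.app (op V)).hom.toIntLinearMap
      (((EtCoh.pullPushAdj f).unit.app G).hom.app (op V)).hom.toIntLinearMap).toAddMonoidHom

theorem projMap_tmul (V : Y.Etale) (s : EtCoh.sect ((Lsh f).obj F) V) (n : EtCoh.sect G V) :
    projMap f F G V (s ⊗ₜ[ℤ] n) = tmulSect F ((EtCoh.pull f).obj G) ((EtCoh.bc f).obj V) s.1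
      (((EtCoh.pullPushAdj f).unit.app G).hom.app (op V) n) := rfl

theorem projMap_mem (V : Y.Etale) (x : EtCoh.sect ((Lsh f).obj F) V ⊗[ℤ] EtCoh.sect G V) :
    projMap f F G V x ∈ shriekSubgroup f (H f F G) V := by
  induction x using TensorProduct.induction_on with
  | zero => rw [map_zero]; exact zero_mem _
  | tmul s n =>
    rw [projMap_tmul, mem_shriekSubgroup_iff]
    exact ProperOver.mono ((mem_shriekSubgroup_iff F f V s.1).1 s.2) (isClosed_supp _ _ _) (supp_tmulSect _ _ _ _ _)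
  | add a b ha hb => rw [map_add]; exact add_mem ha hb

/-- On presheaves. -/
def projPre : EtTens.tensorObj ((Lsh f).obj F).obj G.obj ⟶ ((Lsh f).obj (H f F G)).obj where
  app V := AddCommGrpCat.ofHom
    ((projMap f F G V.unop).codRestrict (shriekSubgroup f (H f F G) V.unop) (projMap_mem f F G V.unop))
  naturality V V' k := EtTens.hom_ext_tmul fun s n => Subtype.ext (by
    show projMap f F G V'.unop (((Lsh f).obj F).obj.map k s ⊗ₜ[ℤ] G.obj.map k n) =
      (H f F G).obj.map ((EtCoh.bc f).map k.unop).op (projMap f F G V.unop (s ⊗ₜ[ℤ] n))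
    rw [projMap_tmul, projMap_tmul, tmulSect_map]
    exact congrArg (tmulSect F ((EtCoh.pull f).obj G) _ _)
      (NatTrans.naturality_apply ((EtCoh.pullPushAdj f).unit.app G).hom k n))

/-- `f_! F ⊗ G → f_! (F ⊗ f^* G)`. -/
def projHom : (EtTens.tensorBi.obj ((Lsh f).obj F)).obj G ⟶ (Lsh f).obj (H f F G) :=
  ((sheafificationAdjunction Y.smallEtaleTopology AddCommGrpCat.{u + 1}).homEquiv _ _).symm (projPre f F G)

theorem projHom_tmulSect (V : Y.Etale) (s : EtCoh.sect ((Lsh f).obj F) V) (n : EtCoh.sect G V) :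
    (projHom f F G).hom.app (op V) (tmulSect ((Lsh f).obj F) G V s n) = (projPre f F G).app (op V) (s ⊗ₜ[ℤ] n) := by
  have := congr_app (((sheafificationAdjunction Y.smallEtaleTopology AddCommGrpCat.{u + 1}).homEquiv _ ((Lsh f).obj (H f F G)))
    |>.apply_symm_apply (projPre f F G)) (op V)
  rw [Adjunction.homEquiv_unit] at this
  exact ConcreteCategory.congr_hom this _

variable {Ω : Type u} [Field Ω] [IsAlgClosed Ω] (η : Spec (CommRingCat.of Ω) ⟶ Y)

/-- `G_η → (f^* G)_ξ`. -/
def pullGerm (ξ : Pts f η) : (EtCoh.stalk η).obj G ⟶ (EtCoh.stalk ξ.1).obj ((EtCoh.pull f).obj G) :=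
  (EtCoh.stalk η).map ((EtCoh.pullPushAdj f).unit.app G) ≫
    (EtSite.germMap f η ξ.1 ξ.2).app ((EtCoh.pull f).obj G)

omit [LocallyOfFiniteType f] in
theorem pullGerm_germ (ξ : Pts f η) (V : Y.Etale) (t : (Scheme.pointSmallEtale η).fiber.obj V)
    (n : EtCoh.sect G V) :
    pullGerm f G η ξ ((Scheme.pointSmallEtale η).toPresheafFiber V t G.obj n) =
      (Scheme.pointSmallEtale ξ.1).toPresheafFiber ((EtCoh.bc f).obj V) (EtSite.liftPt f η ξ.1 ξ.2 V t)
        ((EtCoh.pull f).obj G).obj (((EtCoh.pullPushAdj f).unit.app G).hom.app (op V) n) := by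
  rw [pullGerm, ConcreteCategory.comp_apply]
  refine (congrArg _ ((Scheme.pointSmallEtale η).toPresheafFiber_naturality_apply
    ((EtCoh.pullPushAdj f).unit.app G).hom V t n)).trans ?_
  exact EtSite.germMap_germ f η ξ.1 ξ.2 _ V t _

omit [LocallyOfFiniteType f] in
theorem bijective_pullGerm (ξ : Pts f η) : Function.Bijective (pullGerm f G η ξ) := by
  obtain ⟨ξ, rfl⟩ := ξ
  have h : pullGerm f G (ξ ≫ f) ⟨ξ, rfl⟩ = (EtSite.stalkPullIso f ξ).hom.app G := by
    ext p
    obtain ⟨V, t, n, rfl⟩ := (Scheme.pointSmallEtale (ξ ≫ f)).toPresheafFiber_jointly_surjective p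
    exact (pullGerm_germ f G (ξ ≫ f) ⟨ξ, rfl⟩ V t n).trans
      (ConcreteCategory.congr_hom (EtSite.toPresheafFiber_stalkPullIso_hom f ξ G V t) n).symm
  rw [h]
  exact ConcreteCategory.bijective_of_isIso ((EtSite.stalkPullIso f ξ).app G).hom

/-- Projection of `(f_! F)_η ⊗ G_η` to `(F ⊗ f^* G)_ξ`. -/
def projT (ξ : Pts f η) : (EtCoh.stalk η).obj ((Lsh f).obj F) ⊗[ℤ] (EtCoh.stalk η).obj G →+
    (EtCoh.stalk ξ.1).obj (H f F G) :=
  (stalkTensor ξ.1 F ((EtCoh.pull f).obj G)).comp ((TensorProduct.map LinearMap.id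
    (pullGerm f G η ξ).hom.toIntLinearMap).toAddMonoidHom.comp (rT (stalkMap f η F ξ).hom))

omit [LocallyOfFiniteType f] in
theorem bijective_e (ξ : Pts f η) : Function.Bijective ((stalkTensor ξ.1 F ((EtCoh.pull f).obj G)).comp
    (TensorProduct.map (LinearMap.id : (EtCoh.stalk ξ.1).obj F →ₗ[ℤ] _)
      (pullGerm f G η ξ).hom.toIntLinearMap).toAddMonoidHom) :=
  (bijective_stalkTensor ξ.1 F ((EtCoh.pull f).obj G)).comp
    (TensorProduct.map_bijective Function.bijective_id (bijective_pullGerm f G η ξ))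

/-- The composite on stalks. -/
def stalkProj : (EtCoh.stalk η).obj ((Lsh f).obj F) ⊗[ℤ] (EtCoh.stalk η).obj G →+
    (EtCoh.stalk η).obj ((Lsh f).obj (H f F G)) :=
  ((EtCoh.stalk η).map (projHom f F G)).hom.comp (stalkTensor η ((Lsh f).obj F) G)

theorem stalkMap_stalkProj (ξ : Pts f η) (x) :
    stalkMap f η (H f F G) ξ (stalkProj f F G η x) = projT f F G η ξ x := by
  induction x using TensorProduct.induction_on with
  | zero => rw [map_zero, map_zero, map_zero]
  | add a b ha hb =>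
    rw [map_add (stalkProj f F G η), map_add (projT f F G η ξ), ← ha, ← hb]
    exact map_add _ _ _
  | tmul p q =>
    let Φ := Scheme.pointSmallEtale η
    obtain ⟨V, t, s, rfl⟩ := Φ.toPresheafFiber_jointly_surjective p
    obtain ⟨V', t', n, rfl⟩ := Φ.toPresheafFiber_jointly_surjective q
    suffices key : ∀ (W : Y.Etale) (w : Φ.fiber.obj W) (s' : EtCoh.sect ((Lsh f).obj F) W) (n' : EtCoh.sect G W),
        stalkMap f η (H f F G) ξ (stalkProj f F G η
          (Φ.toPresheafFiber W w ((Lsh f).obj F).obj s' ⊗ₜ[ℤ] Φ.toPresheafFiber W w G.obj n')) =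
        projT f F G η ξ (Φ.toPresheafFiber W w ((Lsh f).obj F).obj s' ⊗ₜ[ℤ] Φ.toPresheafFiber W w G.obj n') by
      have e1 := Φ.toPresheafFiber_w_apply (prodFst V V') (prodPt η t t') ((Lsh f).obj F).obj s
      have e2 := Φ.toPresheafFiber_w_apply (prodSnd V V') (prodPt η t t') G.obj n
      rw [map_prodPt_fst] at e1
      rw [map_prodPt_snd] at e2
      have := key (prodObj V V') (prodPt η t t') (((Lsh f).obj F).obj.map (prodFst V V').op s)
        (G.obj.map (prodSnd V V').op n)
      rw [e1, e2] at this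
      exact this
    intro W w s' n'
    have h1 : stalkProj f F G η ((Φ.toPresheafFiber W w ((Lsh f).obj F).obj s') ⊗ₜ[ℤ]
        (Φ.toPresheafFiber W w G.obj n')) = Φ.toPresheafFiber W w ((Lsh f).obj (H f F G)).obj
          ((projPre f F G).app (op W) (s' ⊗ₜ[ℤ] n')) :=
      (congrArg _ (stalkTensor_germ η ((Lsh f).obj F) G W w s' n')).trans
        ((Φ.toPresheafFiber_naturality_apply (projHom f F G).hom W w _).trans
          (congrArg _ (projHom_tmulSect f F G W s' n')))
    refine ((congrArg (stalkMap f η (H f F G) ξ) h1).trans (stalkMap_germ f η (H f F G) ξ W w _)).trans ?_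
    show _ = stalkTensor ξ.1 F ((EtCoh.pull f).obj G)
      (stalkMap f η F ξ (Φ.toPresheafFiber W w ((Lsh f).obj F).obj s') ⊗ₜ[ℤ]
        pullGerm f G η ξ (Φ.toPresheafFiber W w G.obj n'))
    rw [stalkMap_germ, pullGerm_germ, stalkTensor_germ]
    rfl

variable [IsSeparated f] [LocallyQuasiFinite f]

theorem bijective_stalkProj : Function.Bijective (stalkProj f F G η) := by
  classical
  choose φ₀ hφ hφ' using stalkMap_single f η F
  have hadd : ∀ ξ a b, φ₀ ξ (a + b) = φ₀ ξ a + φ₀ ξ b := fun ξ a b =>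
    sub_eq_zero.1 (stalkMap_injective f η F _ fun j => by
      by_cases hj : j = ξ
      · subst hj; simp [map_add, map_sub, hφ]
      · simp [map_add, map_sub, hφ' ξ _ j hj])
  let φ : ∀ ξ : Pts f η, (EtCoh.stalk ξ.1).obj F →+ (EtCoh.stalk η).obj ((Lsh f).obj F) :=
    fun ξ => AddMonoidHom.mk' (φ₀ ξ) (hadd ξ)
  constructor
  · refine (injective_iff_map_eq_zero _).2 fun x hx => tensor_eq_zero_of_proj (stalkMap f η F) φ hφ
      (fun i j a h => hφ' i a j h) (stalkMap_injective f η F) (finite_stalkMap_support f η F) x fun ξ => ?_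
    apply (bijective_e f F G η ξ).1
    rw [map_zero]
    exact ((stalkMap_stalkProj f F G η ξ x).symm.trans ((congrArg _ hx).trans (map_zero _)))
  · intro p
    choose z hz using fun ξ => (bijective_e f F G η ξ).2 (stalkMap f η (H f F G) ξ p)
    refine ⟨∑ ξ ∈ (finite_stalkMap_support f η (H f F G) p).toFinset, rT (φ ξ) (z ξ),
      sub_eq_zero.1 (stalkMap_injective f η (H f F G) _ fun ξ => ?_)⟩
    refine (map_sub (stalkMap f η (H f F G) ξ).hom _ _).trans (sub_eq_zero.2 ?_)
    refine (stalkMap_stalkProj f F G η ξ _).trans ?_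
    have hk : ∀ k, rT (stalkMap f η F ξ).hom (rT (φ k) (z k)) = if k = ξ then rT (stalkMap f η F ξ).hom (rT (φ ξ) (z ξ)) else 0 := fun k => by
      by_cases hk : k = ξ
      · subst hk; rw [if_pos rfl]
      · rw [if_neg hk]
        induction z k using TensorProduct.induction_on with
        | zero => simp
        | tmul a b =>
          show stalkMap f η F ξ (φ₀ k a) ⊗ₜ[ℤ] b = 0
          rw [hφ' k a ξ (Ne.symm hk), TensorProduct.zero_tmul]
        | add a b ha hb => rw [map_add, map_add, ha, hb, add_zero]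
    have hid : rT (stalkMap f η F ξ).hom (rT (φ ξ) (z ξ)) = z ξ := by
      induction z ξ using TensorProduct.induction_on with
      | zero => simp
      | tmul a b =>
        show stalkMap f η F ξ (φ₀ ξ a) ⊗ₜ[ℤ] b = a ⊗ₜ[ℤ] b
        rw [hφ]
      | add a b ha hb => rw [map_add, map_add, ha, hb]
    show stalkTensor ξ.1 F ((EtCoh.pull f).obj G) ((TensorProduct.map LinearMap.id
      (pullGerm f G η ξ).hom.toIntLinearMap).toAddMonoidHom (rT (stalkMap f η F ξ).hom _)) = _
    rw [map_sum (rT (stalkMap f η F ξ).hom), Finset.sum_congr rfl (fun k _ => hk k), Finset.sum_ite_eq']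
    split_ifs with h
    · rw [hid]; exact hz ξ
    · rw [map_zero, map_zero]
      exact (by simpa using h : stalkMap f η (H f F G) ξ p = 0).symm

theorem isIso_stalk_projHom : IsIso ((EtCoh.stalk η).map (projHom f F G)) := by
  refine (ConcreteCategory.isIso_iff_bijective _).2 ?_
  have h := bijective_stalkProj f F G η
  exact (Function.Bijective.of_comp_iff _ (bijective_stalkTensor η ((Lsh f).obj F) G)).1 h

omit [Field Ω] [IsAlgClosed Ω] in
theorem nonempty_projection_iso :
    Nonempty ((EtTens.tensorBi.obj ((lowerShriek f).obj F)).obj G ≅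
      (lowerShriek f).obj ((EtTens.tensorBi.obj F).obj ((EtCoh.pull f).obj G))) := by
  haveI : IsIso (projHom f F G) := EtSite.isIso_of_exists_stalk _ fun y => by
    obtain ⟨η, hη⟩ := EtSite.exists_algClosed_pt (Y := Y) y
    exact ⟨_, inferInstance, inferInstance, η, hη, isIso_stalk_projHom f F G η⟩
  exact ⟨(EtTens.tensorBi.mapIso ((lowerShriekIso f).app F)).app G ≪≫ asIso (projHom f F G) ≪≫
    ((lowerShriekIso f).app _).symm⟩

end

end Groth.Agent.EtShriekLib
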