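import Groth.Agent.EtShriekLib.Supp
import Groth.Agent.FpqcDescent.Basic

/-! Sections with proper support form a sheaf. -/

set_option autoImplicit false
set_option linter.style.haveILetI false
set_option backward.isDefEq.respectTransparency.types false
set_option backward.defeqAttrib.useBackward true

universe u

open CategoryTheory CategoryTheory.Limits AlgebraicGeometry Opposite EtShriek

namespace Groth.Agent.EtShriekLib

noncomputable section

/-- Properness is étale local on the base. -/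
theorem isProper_of_etale_local {T V : Scheme.{u}} (g : T ⟶ V)
    (h : ∀ v : V, ∃ (V' : Scheme.{u}) (φ : V' ⟶ V) (_ : Etale φ) (v' : V') (_ : φ.base v' = v)
      (P : Scheme.{u}) (p : P ⟶ T) (q : P ⟶ V'), IsPullback p q g φ ∧ IsProper q) : IsProper g := by
  choose V' φ hφ v' hv' P p q hsq hq using h
  have hA : ∀ v, ∃ A : V.Opens, IsAffineOpen A ∧ v ∈ A := fun v => by
    obtain ⟨A, hA, hv, -⟩ := exists_isAffineOpen_mem_and_subset (x := v) (U := ⊤) trivial
    exact ⟨A, hA, hv⟩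
  choose A hA hvA using hA
  have hB : ∀ v, ∃ B : (V' v).Opens, IsAffineOpen B ∧ v' v ∈ B ∧ B ≤ (φ v) ⁻¹ᵁ A v := fun v => by
    obtain ⟨B, hB, hvB, hsub⟩ := exists_isAffineOpen_mem_and_subset (x := v' v) (U := (φ v) ⁻¹ᵁ A v)
      (by show (φ v).base (v' v) ∈ A v; rw [hv']; exact hvA v)
    exact ⟨B, hB, hvB, hsub⟩
  choose B hB hvB hBA using hB
  haveI : ∀ v, Etale ((B v).ι ≫ φ v) := fun v => by haveI := hφ v; infer_instance
  let O : V → V.Opens := fun v => ⟨Set.range ((B v).ι ≫ φ v).base, ((B v).ι ≫ φ v).isOpenMap.isOpen_range⟩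
  have hO : iSup O = ⊤ := by
    rw [eq_top_iff]
    exact fun v _ => TopologicalSpace.Opens.mem_iSup.2 ⟨v, ⟨v' v, hvB v⟩, hv' v⟩
  refine IsZariskiLocalAtTarget.of_iSup_eq_top O hO fun v => ?_
  let ψ : (B v).toScheme ⟶ (O v).toScheme :=
    IsOpenImmersion.lift (O v).ι ((B v).ι ≫ φ v) (by rw [Scheme.Opens.range_ι]; rfl)
  have hψ : ψ ≫ (O v).ι = (B v).ι ≫ φ v := IsOpenImmersion.lift_fac _ _ _
  haveI : Etale ψ := by
    haveI : Etale (ψ ≫ (O v).ι) := by rw [hψ]; infer_instance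
    exact Etale.of_comp ψ (O v).ι
  haveI : Surjective ψ := ⟨fun x => by
    obtain ⟨b, hb⟩ := x.2
    refine ⟨b, (O v).ι.isOpenEmbedding.injective ?_⟩
    rw [← Scheme.Hom.comp_apply, hψ]
    exact hb⟩
  have hOA : O v ≤ A v := by
    rintro _ ⟨b, rfl⟩
    exact hBA v b.2
  haveI : IsAffine (A v).toScheme := hA v
  haveI : IsAffine (B v).toScheme := hB v
  haveI : QuasiCompact (ψ ≫ V.homOfLE hOA) := inferInstance
  haveI : QuasiCompact ψ := QuasiCompact.of_comp ψ (V.homOfLE hOA)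
  haveI : MorphismProperty.DescendsAlong @IsProper
      (@Surjective ⊓ @Flat ⊓ @QuasiCompact : MorphismProperty Scheme.{u}) :=
    FpqcDescent.isProper_descendsAlong
  refine MorphismProperty.of_pullback_snd_of_descendsAlong
    (Q := (@Surjective ⊓ @Flat ⊓ @QuasiCompact : MorphismProperty Scheme.{u})) (g := ψ)
    ⟨⟨inferInstance, inferInstance⟩, inferInstance⟩ ?_
  have h₁ := (IsPullback.of_hasPullback (g ∣_ O v) ψ).paste_horiz (isPullback_morphismRestrict g (O v)).flip
  rw [hψ] at h₁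
  exact MorphismProperty.of_isPullback (IsPullback.of_right' h₁ (hsq v)) (hq v)

variable {X Y : Scheme.{u}} (f : X ⟶ Y) [LocallyOfFiniteType f] (F : EtCoh.Ab X)

theorem mem_shriekSubgroup_of_locally (V : Y.Etale) (t : EtCoh.sect F ((EtCoh.bc f).obj V))
    (h : ∀ v : V.left, ∃ (V' : Y.Etale) (φ : V' ⟶ V) (v' : V'.left), φ.left.base v' = v ∧
      F.obj.map ((EtCoh.bc f).map φ).op t ∈ shriekSubgroup f F V') :
    t ∈ shriekSubgroup f F V := by
  rw [mem_shriekSubgroup_iff]
  let Z := sectSupp F ((EtCoh.bc f).obj V) t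
  have hZ : IsClosed Z := isClosed_supp F _ t
  refine ⟨hZ, isProper_of_etale_local _ fun v => ?_⟩
  obtain ⟨V', φ, v', hv, ht⟩ := h v
  rw [mem_shriekSubgroup_iff, supp_map] at ht
  let i := (Scheme.IdealSheafData.vanishingIdeal ⟨Z, hZ⟩).subschemeι
  refine ⟨V'.left, φ.left, etale_left φ, v', hv, _, _, _,
    (IsPullback.of_hasPullback ((EtCoh.bc f).map φ).left i).flip.paste_vert (EtCoh.isPullback_bc_map f φ), ?_⟩
  refine ProperOver.isProper_comp ht (pullback.fst ((EtCoh.bc f).map φ).left i) ?_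
  rw [Scheme.Pullback.range_fst, Scheme.IdealSheafData.range_subschemeι,
    Scheme.IdealSheafData.coe_support_vanishingIdeal]
  rfl

theorem isSheaf_lowerShriekPre : Presheaf.IsSheaf Y.smallEtaleTopology (lowerShriekPre f F) := by
  rw [Presheaf.isSheaf_iff_isSheaf_forget _ _ (forget AddCommGrpCat), isSheaf_iff_isSheaf_of_type]
  intro V R hR x hx
  have hP := (isSheaf_iff_isSheaf_of_type _ _).1
    ((Presheaf.isSheaf_iff_isSheaf_forget _ _ (forget AddCommGrpCat)).1 ((EtCoh.push f).obj F).property) R hR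
  let y : Presieve.FamilyOfElements (((EtCoh.push f).obj F).obj ⋙ forget AddCommGrpCat) R.arrows :=
    fun V' φ hφ => (x φ hφ).1
  have hy : y.Compatible := fun V₁ V₂ Z g₁ g₂ f₁ f₂ h₁ h₂ w => congrArg Subtype.val (hx g₁ g₂ h₁ h₂ w)
  have ht : hP.amalgamate y hy ∈ shriekSubgroup f F V := by
    refine mem_shriekSubgroup_of_locally f F V _ fun v => ?_
    obtain ⟨V', φ, v', hφ, hv⟩ := exists_of_mem_topology hR v
    refine ⟨V', φ, v', hv, ?_⟩
    have := hP.valid_glue hy φ hφ
    exact this.symm ▸ (x φ hφ).2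
  refine ⟨⟨_, ht⟩, fun V' φ hφ => Subtype.ext (hP.valid_glue hy φ hφ), fun b hb => Subtype.ext ?_⟩
  exact hP.isSeparatedFor y b.1 _ (fun V' φ hφ => congrArg Subtype.val (hb φ hφ)) (fun V' φ hφ => hP.valid_glue hy φ hφ)

end

end Groth.Agent.EtShriekLib
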