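import Groth.Agent.EtShriekLib.Comp
import Groth.Agent.EtSite.PushFinite

/-! Stalks of `f_!` for separated, locally quasi-finite morphisms. -/

set_option autoImplicit false
set_option linter.style.haveILetI false
set_option backward.isDefEq.respectTransparency.types false
set_option backward.defeqAttrib.useBackward true
set_option backward.isDefEq.respectTransparency false

universe u

open CategoryTheory CategoryTheory.Limits AlgebraicGeometry Opposite EtShriek
open Groth.Agent.Weighting (pt lifts geoFib)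

namespace Groth.Agent.EtShriekLib

noncomputable section

theorem pt_eq_base {Ω : Type u} [Field Ω] {U : Scheme.{u}} (φ : Spec (CommRingCat.of Ω) ⟶ U)
    (s : Spec (CommRingCat.of Ω)) : φ.base s = pt φ :=
  congrArg _ (Weighting.point_eq s)

/-- A germ vanishes exactly off the support. -/
theorem germ_ne_zero_mem_supp {X : Scheme.{u}} {Ω : Type u} [Field Ω] [IsAlgClosed Ω] (F : EtCoh.Ab X) {ξ : Spec (CommRingCat.of Ω) ⟶ X} (U : X.Etale)
    (u : (Scheme.pointSmallEtale ξ).fiber.obj U) (s : EtCoh.sect F U) :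
    (Scheme.pointSmallEtale ξ).toPresheafFiber U u F.obj s = 0 ↔ pt u.left ∉ sectSupp F U s := by
  let Φ := Scheme.pointSmallEtale ξ
  constructor
  · intro h hx
    obtain ⟨V, g, v, hv, hg⟩ := (Φ.toPresheafFiber_eq_iff' U u s 0).1 (h.trans (map_zero _).symm)
    refine hx V g ⟨pt v.left, ?_⟩ (hg.trans (map_zero _))
    exact (Weighting.pt_comp v.left g.left).symm.trans (congrArg pt (congrArg CommaMorphism.left hv))
  · intro h
    obtain ⟨W, g, w, hw, hs⟩ := (not_mem_supp_iff F U s _).1 h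
    haveI := etale_left g
    obtain ⟨l, hl, -⟩ := Scheme.exists_fac_of_etale_of_isSepClosed g.left u.left w
      (hw.trans (pt_eq_base u.left _).symm)
    let w' : Φ.fiber.obj W := Over.homMk l (by
      show l ≫ W.hom = ξ
      rw [← MorphismProperty.Over.w g, ← Category.assoc, hl]
      exact Over.w u)
    have hg : Φ.fiber.map g w' = u := Over.OverMorphism.ext hl
    rw [← hg]
    exact (Φ.toPresheafFiber_w_apply g w' F.obj s).symm.trans ((congrArg _ hs).trans (map_zero _))

variable {X Y : Scheme.{u}} (f : X ⟶ Y) [LocallyOfFiniteType f] {Ω : Type u} [Field Ω] [IsAlgClosed Ω]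
  (η : Spec (CommRingCat.of Ω) ⟶ Y) (F : EtCoh.Ab X)

/-- The points over `η`. -/
abbrev Pts : Type u := {ξ : Spec (CommRingCat.of Ω) ⟶ X // ξ ≫ f = η}

/-- `(f_! F)_η → F_ξ`. -/
def stalkMap (ξ : Pts f η) : (EtCoh.stalk η).obj ((Lsh f).obj F) ⟶ (EtCoh.stalk ξ.1).obj F :=
  (EtCoh.stalk η).map ((ιL f).app F) ≫ (EtSite.germMap f η ξ.1 ξ.2).app F

theorem stalkMap_germ (ξ : Pts f η) (V : Y.Etale) (t : (Scheme.pointSmallEtale η).fiber.obj V)
    (z : EtCoh.sect ((Lsh f).obj F) V) :
    stalkMap f η F ξ ((Scheme.pointSmallEtale η).toPresheafFiber V t ((Lsh f).obj F).obj z) =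
      (Scheme.pointSmallEtale ξ.1).toPresheafFiber ((EtCoh.bc f).obj V) (EtSite.liftPt f η ξ.1 ξ.2 V t) F.obj z.1 := by
  rw [stalkMap, ConcreteCategory.comp_apply]
  refine (congrArg _ ((Scheme.pointSmallEtale η).toPresheafFiber_naturality_apply ((ιL f).app F).hom V t z)).trans ?_
  exact EtSite.germMap_germ f η ξ.1 ξ.2 F V t _

instance locallyQuasiFinite_prV [LocallyQuasiFinite f] (V : Y.Etale) : LocallyQuasiFinite (prV f V) :=
  inferInstanceAs (LocallyQuasiFinite (pullback.fst V.hom f))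

theorem stalkMap_injective [LocallyQuasiFinite f] (p : (EtCoh.stalk η).obj ((Lsh f).obj F))
    (hp : ∀ ξ, stalkMap f η F ξ p = 0) : p = 0 := by
  let Φ := Scheme.pointSmallEtale η
  obtain ⟨V, t, z, rfl⟩ := Φ.toPresheafFiber_jointly_surjective p
  have hv : pt t.left ∉ (prV f V).base '' sectSupp F ((EtCoh.bc f).obj V) z.1 := by
    rintro ⟨x, hx, hxv⟩
    obtain ⟨-, ⟨φ, hφ, (hφx : pt φ = x)⟩, -⟩ := Weighting.finite_geoFib_singleton (prV f V) t.left x hxv
    have hξ : (φ ≫ pullback.snd V.hom f) ≫ f = η := by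
      exact (Category.assoc _ _ _).trans ((congrArg (φ ≫ ·) pullback.condition.symm).trans
        ((Category.assoc _ _ _).symm.trans ((congrArg (· ≫ V.hom) hφ).trans (Over.w t))))
    have h0 := hp ⟨_, hξ⟩
    replace h0 := (germ_ne_zero_mem_supp F _ _ _).1 ((stalkMap_germ f η F _ V t z).symm.trans h0)
    have he : (EtSite.liftPt f η _ hξ V t).left = φ :=
      pullback.hom_ext ((pullback.lift_fst _ _ _).trans hφ.symm) (pullback.lift_snd _ _ _)
    exact h0 ((congrArg pt he).symm ▸ hφx.symm ▸ hx)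

  rw [← supp_Lsh f F V z] at hv
  exact (germ_ne_zero_mem_supp ((Lsh f).obj F) V t z).2 hv

theorem finite_stalkMap_support [LocallyQuasiFinite f] (p : (EtCoh.stalk η).obj ((Lsh f).obj F)) :
    {ξ | stalkMap f η F ξ p ≠ 0}.Finite := by
  let Φ := Scheme.pointSmallEtale η
  obtain ⟨V, t, z, rfl⟩ := Φ.toPresheafFiber_jointly_surjective p
  let Z := sectSupp F ((EtCoh.bc f).obj V) z.1
  obtain ⟨hcl, hpr⟩ := (mem_shriekSubgroup_iff F f V z.1).1 z.2
  let i := (Scheme.IdealSheafData.vanishingIdeal ⟨Z, hcl⟩).subschemeι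
  haveI : IsProper (i ≫ prV f V) := hpr
  haveI : IsFinite (i ≫ prV f V) := IsFinite.of_isProper_of_locallyQuasiFinite _
  have hfin : ((prV f V).base ⁻¹' {pt t.left} ∩ Z).Finite := by
    refine (((i ≫ prV f V).finite_preimage_singleton (pt t.left)).image i.base).subset ?_
    rintro x ⟨hx, hxZ⟩
    obtain ⟨y, rfl⟩ : x ∈ Set.range i.base := by
      rw [Scheme.IdealSheafData.range_subschemeι, Scheme.IdealSheafData.coe_support_vanishingIdeal]
      exact hxZ
    exact ⟨y, hx, rfl⟩
  refine ((Weighting.finite_geoFib (prV f V) t.left Z hfin).preimage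
    (f := fun ξ : Pts f η => (EtSite.liftPt f η ξ.1 ξ.2 V t).left) ?_).subset ?_
  · intro a _ b _ h
    have := congrArg (· ≫ pullback.snd V.hom f) h
    simp only [EtSite.liftPt] at this
    exact Subtype.ext ((pullback.lift_snd _ _ _).symm.trans (this.trans (pullback.lift_snd _ _ _)))
  · intro ξ hξ
    refine ⟨pullback.lift_fst _ _ _, ?_⟩
    by_contra h
    apply hξ
    exact (stalkMap_germ f η F ξ V t z).trans ((germ_ne_zero_mem_supp F _ _ _).2 h)

theorem stalkMap_single [IsSeparated f] [LocallyQuasiFinite f] (ξ : Pts f η)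
    (a : (EtCoh.stalk ξ.1).obj F) :
    ∃ p, stalkMap f η F ξ p = a ∧ ∀ ξ', ξ' ≠ ξ → stalkMap f η F ξ' p = 0 := by
  let Φ := Scheme.pointSmallEtale η
  obtain ⟨U, u, s, rfl⟩ := (Scheme.pointSmallEtale ξ.1).toPresheafFiber_jointly_surjective a
  have hu : u.left ≫ U.hom = ξ.1 := Over.w u
  haveI : Etale U.hom := U.prop
  let q := U.hom ≫ f
  obtain ⟨V₀, g, hg, γ', W, hWfin, hγ', hW⟩ := Weighting.exists_isolating q η u.left
    (by rw [← Category.assoc, hu]; exact ξ.2)
  let V : Y.Etale := MorphismProperty.Over.mk ⊤ g hg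
  let P := (EtCoh.bc f).obj V
  let k : pullback q g ⟶ P.left := pullback.lift (pullback.snd q g) (pullback.fst q g ≫ U.hom)
    (by rw [Category.assoc]; exact pullback.condition.symm)
  haveI : Etale k := by
    have h1 : IsPullback (pullback.fst q g) k U.hom (pullback.snd g f) :=
      IsPullback.of_bot (by rw [show k ≫ pullback.fst g f = pullback.snd q g from pullback.lift_fst _ _ _]; exact IsPullback.of_hasPullback q g)
        (pullback.lift_snd _ _ _).symm (IsPullback.of_hasPullback g f).flip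
    exact MorphismProperty.of_isPullback h1 inferInstance
  let a : W.toScheme ⟶ P.left := W.ι ≫ k
  haveI : Etale a := inferInstance
  have hak : a ≫ prV f V = W.ι ≫ pullback.snd q g := (Category.assoc _ _ _).trans (congrArg _ (pullback.lift_fst _ _ _))
  haveI : IsSeparated (prV f V) := inferInstanceAs (IsSeparated (pullback.fst g f))
  haveI : IsFinite (a ≫ prV f V) := by rw [hak]; exact hWfin
  haveI : IsFinite a := IsFinite.of_comp a (prV f V)
  let π₂ := pullback.fst a a ≫ a ≫ prV f V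
  haveI : IsFinite π₂ := inferInstance
  let bad : Set V.left := π₂.base '' (Set.range (pullback.diagonal a).base)ᶜ
  have hbad : IsClosed bad :=
    π₂.isClosedMap _ (pullback.diagonal a).isOpenEmbedding.isOpen_range.isClosed_compl
  have huniq : ∀ ψ : Spec (CommRingCat.of Ω) ⟶ W.toScheme, ψ ≫ a ≫ prV f V = γ' →
      ψ ≫ W.ι ≫ pullback.fst q g = u.left := by
    intro ψ hψ
    rw [hak] at hψ
    have hm : ψ ≫ W.ι ≫ pullback.fst q g ∈ lifts q g W γ' :=
      ⟨ψ ≫ W.ι, ⟨(Category.assoc _ _ _).trans hψ, by rw [Weighting.pt_comp]; exact (pt ψ).2⟩, Category.assoc _ _ _⟩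
    rwa [hW, Set.mem_singleton_iff] at hm
  have hext : ∀ ψ ψ' : Spec (CommRingCat.of Ω) ⟶ W.toScheme, ψ ≫ a ≫ prV f V = γ' →
      ψ' ≫ a ≫ prV f V = γ' → ψ = ψ' := fun ψ ψ' h h' => by
    rw [← cancel_mono W.ι]
    refine pullback.hom_ext ?_ ?_
    · rw [Category.assoc, Category.assoc, huniq ψ h, huniq ψ' h']
    · rw [hak] at h h'
      exact (Category.assoc _ _ _).trans (h.trans (h'.symm.trans (Category.assoc _ _ _).symm))
  have hγbad : pt γ' ∉ bad := by
    rintro ⟨z, hz, hzγ⟩
    obtain ⟨-, ⟨ψ, hψ, (hψz : pt ψ = z)⟩, -⟩ := Weighting.finite_geoFib_singleton π₂ γ' z hzγ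
    have e : ψ ≫ pullback.fst a a = ψ ≫ pullback.snd a a := by
      refine hext _ _ ((Category.assoc _ _ _).trans hψ) ?_
      rw [Category.assoc, ← Category.assoc (pullback.snd a a), ← pullback.condition, Category.assoc]
      exact hψ
    refine hz ⟨pt (ψ ≫ pullback.fst a a), ?_⟩
    rw [← Weighting.pt_comp, ← hψz]
    refine congrArg pt (pullback.hom_ext ?_ ?_)
    · rw [Category.assoc, pullback.diagonal_fst, Category.comp_id]
    · rw [Category.assoc, pullback.diagonal_snd, Category.comp_id, e]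
  let O : V.left.Opens := ⟨badᶜ, hbad.isOpen_compl⟩
  let V' : Y.Etale := openObj V O
  let π : V' ⟶ V := openHom V O
  let P' := (EtCoh.bc f).obj V'
  have sq := EtCoh.isPullback_bc_map f π
  let A : W.toScheme.Opens := (a ≫ prV f V) ⁻¹ᵁ O
  let b : A.toScheme ⟶ P'.left := sq.lift (A.ι ≫ a) ((a ≫ prV f V) ∣_ O)
    (by rw [Category.assoc]; exact (morphismRestrict_ι (a ≫ prV f V) O).symm)
  have hb₁ : b ≫ ((EtCoh.bc f).map π).left = A.ι ≫ a := sq.lift_fst _ _ _
  have hb₂ : b ≫ prV f V' = (a ≫ prV f V) ∣_ O := sq.lift_snd _ _ _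
  haveI : IsFinite ((a ≫ prV f V) ∣_ O) :=
    MorphismProperty.of_isPullback (isPullback_morphismRestrict (a ≫ prV f V) O).flip inferInstance
  haveI : IsSeparated (prV f V') := inferInstanceAs (IsSeparated (pullback.fst V'.hom f))
  haveI : IsFinite (b ≫ prV f V') := by rw [hb₂]; infer_instance
  haveI : IsFinite b := IsFinite.of_comp b (prV f V')
  haveI : IsOpenImmersion ((EtCoh.bc f).map π).left :=
    MorphismProperty.of_isPullback sq.flip (inferInstance : IsOpenImmersion O.ι)
  haveI : Etale b := by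
    haveI : Etale (b ≫ ((EtCoh.bc f).map π).left) := by rw [hb₁]; infer_instance
    exact Etale.of_comp b ((EtCoh.bc f).map π).left
  haveI : Etale P'.hom := P'.prop
  let W' : X.Etale := MorphismProperty.Over.mk ⊤ (b ≫ P'.hom) (by show Etale _; infer_instance)
  let β : W' ⟶ P' := MorphismProperty.Over.homMk b rfl
  let χ : W' ⟶ U := MorphismProperty.Over.homMk (A.ι ≫ W.ι ≫ pullback.fst q g) (by
    show (A.ι ≫ W.ι ≫ pullback.fst q g) ≫ U.hom = b ≫ P'.hom
    rw [← MorphismProperty.Over.w ((EtCoh.bc f).map π), ← Category.assoc b, hb₁]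
    show _ = (A.ι ≫ W.ι ≫ k) ≫ pullback.snd g f
    simp only [Category.assoc]
    exact congrArg (fun m => A.ι ≫ W.ι ≫ m) (pullback.lift_snd _ _ _).symm)
  let C : P'.left.Opens := ⟨(Set.range b.base)ᶜ, b.isClosedMap.isClosed_range.isOpen_compl⟩
  let I : Bool → X.Etale := fun c => bif c then W' else openObj P' C
  let ρ : ∀ c, I c ⟶ P' := fun c => match c with
    | true => β
    | false => openHom P' C
  let y : ∀ c, F.obj.obj (op (I c)) := fun c => match c with
    | true => F.obj.map χ.op s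
    | false => 0
  have hcov : Sieve.ofArrows I ρ ∈ X.smallEtaleTopology P' :=
    EtSite.mem_smallEtaleTopology_of_points P' _ fun x => by
      by_cases hx : x ∈ Set.range b.base
      · obtain ⟨w, rfl⟩ := hx
        exact ⟨W', β, w, Sieve.ofArrows_mk I ρ true, rfl⟩
      · exact ⟨_, openHom P' C, ⟨x, hx⟩, Sieve.ofArrows_mk I ρ false, rfl⟩
  have hne : ∀ (T : X.Etale) (x : T ⟶ W') (x' : T ⟶ openObj P' C), x ≫ β = x' ≫ openHom P' C → IsEmpty T.left :=
    fun T x x' h => ⟨fun w => by
      have e : b.base (x.left.base w) = C.ι.base (x'.left.base w) := congrArg (fun m => m.left.base w) h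
      exact (x'.left.base w).2 ⟨_, e⟩⟩
  have hself : ∀ (T : X.Etale) (x x' : T ⟶ W'), x ≫ β = x' ≫ β → x = x' := fun T x x' h => by
    have hl : (x.left ≫ A.ι) ≫ a = (x'.left ≫ A.ι) ≫ a := by
      rw [Category.assoc, Category.assoc, ← hb₁]
      exact congrArg (fun m : T ⟶ P' => m.left ≫ ((EtCoh.bc f).map π).left) h
    let m := pullback.lift _ _ hl
    have hr : Set.range m.base ⊆ Set.range (pullback.diagonal a).base := by
      rintro _ ⟨w, rfl⟩
      by_contra hn
      have e : (m ≫ π₂).base w = (a ≫ prV f V).base (A.ι.base (x.left.base w)) :=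
        congrArg (fun m : T.left ⟶ V.left => m.base w)
          ((congrArg (· ≫ a ≫ prV f V) (pullback.lift_fst _ _ hl)).trans (Category.assoc _ _ _))
      exact (x.left.base w).2 ⟨m.base w, hn, e⟩
    have hd := IsOpenImmersion.lift_fac (pullback.diagonal a) m hr
    apply MorphismProperty.Over.Hom.ext
    show x.left = x'.left
    rw [← cancel_mono A.ι]
    exact (((pullback.lift_fst _ _ hl).symm.trans (congrArg (· ≫ pullback.fst a a) hd.symm)).trans
      ((Category.assoc _ _ _).trans ((congrArg _ (pullback.diagonal_fst a)).trans (Category.comp_id _)))).trans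
      ((((pullback.lift_snd _ _ hl).symm.trans (congrArg (· ≫ pullback.snd a a) hd.symm)).trans
        ((Category.assoc _ _ _).trans ((congrArg _ (pullback.diagonal_snd a)).trans (Category.comp_id _)))).symm)
  have hsh := (Presieve.isSheafFor_iff_generate _).2 (((isSheaf_iff_isSheaf_of_type _ _).1
    ((Presheaf.isSheaf_iff_isSheaf_forget _ _ (forget AddCommGrpCat)).1 F.property)) _ hcov)
  rw [Presieve.isSheafFor_arrows_iff] at hsh
  obtain ⟨z, hz, -⟩ := hsh y (by
    intro c c' T x x' h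
    show F.obj.map x.op (y c) = F.obj.map x'.op (y c')
    cases c <;> cases c'
    · simp [y]
    · haveI := hne T x' x h.symm
      exact @Subsingleton.elim _ (EtSite.subsingleton_sect_of_isEmpty F T) _ _
    · haveI := hne T x x' h
      exact @Subsingleton.elim _ (EtSite.subsingleton_sect_of_isEmpty F T) _ _
    · rw [hself T x x' h])
  have hzero : ∀ x, x ∉ Set.range b.base → x ∉ sectSupp F P' z := fun x hx =>
    (not_mem_supp_iff F P' z x).2 ⟨_, openHom P' C, ⟨x, hx⟩, rfl, hz false⟩
  have hmem : z ∈ shriekSubgroup f F V' :=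
    (mem_shriekSubgroup_iff F f V' z).2 (ProperOver.mono (ProperOver.of_range (f := prV f V') b)
      (isClosed_supp F _ z) (fun x hx => by_contra fun h => hzero x h hx))
  have hr : Set.range γ'.base ⊆ Set.range O.ι.base := by
    rw [Scheme.Opens.range_ι]
    rintro _ ⟨o, rfl⟩
    exact (pt_eq_base γ' o).symm ▸ hγbad
  let γ := IsOpenImmersion.lift O.ι γ' hr
  have hγ : γ ≫ O.ι = γ' := IsOpenImmersion.lift_fac _ _ _
  let t : Φ.fiber.obj V' := Over.homMk γ (by
    show γ ≫ O.ι ≫ g = η
    rw [← Category.assoc, hγ, hγ'])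
  refine ⟨Φ.toPresheafFiber V' t ((Lsh f).obj F).obj ⟨z, hmem⟩, ?_, fun ξ' hξ' => ?_⟩
  · refine (stalkMap_germ f η F ξ V' t _).trans ?_
    obtain ⟨H, hs⟩ := Weighting.mem_lifts.1 (hW.ge (Set.mem_singleton u.left))
    have hrW : Set.range (pullback.lift u.left γ' H).base ⊆ Set.range W.ι.base := by
      rw [Scheme.Opens.range_ι]
      rintro _ ⟨o, rfl⟩
      exact (pt_eq_base _ o).symm ▸ hs
    let w := IsOpenImmersion.lift W.ι _ hrW
    have hw : w ≫ W.ι = pullback.lift u.left γ' H := IsOpenImmersion.lift_fac _ _ _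
    have hwa : w ≫ a ≫ prV f V = γ' := by rw [hak, ← Category.assoc, hw, pullback.lift_snd]
    have hrA : Set.range w.base ⊆ Set.range A.ι.base := by
      rw [Scheme.Opens.range_ι]
      rintro _ ⟨o, rfl⟩
      show (a ≫ prV f V).base (w.base o) ∈ O
      rw [← Scheme.Hom.comp_apply, hwa]
      exact (pt_eq_base γ' o).symm ▸ hγbad
    let w' := IsOpenImmersion.lift A.ι w hrA
    have hw' : w' ≫ A.ι = w := IsOpenImmersion.lift_fac _ _ _
    have hwχ : w' ≫ χ.left = u.left := by
      show w' ≫ A.ι ≫ W.ι ≫ pullback.fst q g = _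
      rw [← Category.assoc, hw', ← Category.assoc, hw, pullback.lift_fst]
    let v : (Scheme.pointSmallEtale ξ.1).fiber.obj W' := Over.homMk w' (by
      show w' ≫ W'.hom = ξ.1
      rw [← MorphismProperty.Over.w χ, ← Category.assoc, hwχ, hu])
    have e1 : (Scheme.pointSmallEtale ξ.1).fiber.map β v = EtSite.liftPt f η ξ.1 ξ.2 V' t := by
      refine Over.OverMorphism.ext (pullback.hom_ext ?_ ?_)
      · refine Eq.trans ?_ (pullback.lift_fst _ _ _).symm
        show (w' ≫ b) ≫ prV f V' = γ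
        rw [← cancel_mono O.ι, hγ]
        refine (congrArg (· ≫ O.ι) ((Category.assoc _ _ _).trans (congrArg (w' ≫ ·) hb₂))).trans ?_
        rw [Category.assoc, morphismRestrict_ι, ← Category.assoc, hw', hwa]
      · refine Eq.trans ?_ (pullback.lift_snd _ _ _).symm
        exact (Category.assoc _ _ _).trans (Over.w v)
    have e2 : (Scheme.pointSmallEtale ξ.1).fiber.map χ v = u := Over.OverMorphism.ext hwχ
    rw [← e1, ← e2, ← (Scheme.pointSmallEtale ξ.1).toPresheafFiber_w_apply,
      ← (Scheme.pointSmallEtale ξ.1).toPresheafFiber_w_apply]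
    exact congrArg _ (hz true)
  · refine (stalkMap_germ f η F ξ' V' t _).trans ((germ_ne_zero_mem_supp F _ _ _).2 ?_)
    apply hzero
    rintro ⟨w, hw⟩
    obtain ⟨-, ⟨φ, hφ, -⟩, -⟩ := Weighting.finite_geoFib_singleton b (EtSite.liftPt f η ξ'.1 ξ'.2 V' t).left w hw
    have hφ1 : (φ ≫ A.ι) ≫ a ≫ prV f V = γ' := by
      rw [Category.assoc, ← morphismRestrict_ι (a ≫ prV f V) O, ← hb₂, Category.assoc, ← Category.assoc φ, hφ,
        ← Category.assoc]
      show (pullback.lift t.left ξ'.1 _ ≫ pullback.fst V'.hom f) ≫ O.ι = γ'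
      rw [pullback.lift_fst]
      exact hγ
    have hφU := huniq _ hφ1
    apply hξ'
    apply Subtype.ext
    have h2 : φ ≫ b ≫ P'.hom = ξ'.1 := by
      rw [← Category.assoc, hφ]
      exact pullback.lift_snd _ _ _
    rw [← h2, ← hu, ← hφU]
    have := MorphismProperty.Over.w χ
    show φ ≫ W'.hom = _
    rw [← this]
    simp [χ]

end

end Groth.Agent.EtShriekLib
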