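import Groth.Agent.EtShriekLib.Sheaf
import Groth.Agent.EtShriekLib.OpenImm
import Groth.Agent.EtSite.Points

/-! Direct images with proper support commute with direct sums. -/

set_option autoImplicit false
set_option linter.style.haveILetI false
set_option backward.isDefEq.respectTransparency.types false
set_option backward.defeqAttrib.useBackward true

universe u

open CategoryTheory CategoryTheory.Limits AlgebraicGeometry Opposite EtShriek

namespace Groth.Agent.EtShriekLib

noncomputable section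

section LowerSh

variable {X Y : Scheme.{u}} (f : X ⟶ Y) [LocallyOfFiniteType f]

/-- Sections with proper support, as a functor to sheaves. -/
abbrev Lsh : EtCoh.Ab X ⥤ EtCoh.Ab Y :=
  ObjectProperty.lift _ (lowerShriekPreFunctor f) (fun F => isSheaf_lowerShriekPre f F)

/-- It is `f_!`. -/
def lowerShriekIso : lowerShriek f ≅ Lsh f :=
  Functor.isoWhiskerLeft (Lsh f)
    (asIso (sheafificationAdjunction Y.smallEtaleTopology AddCommGrpCat.{u + 1}).counit)

theorem Lsh_map_zero (F G : EtCoh.Ab X) : (Lsh f).map (0 : F ⟶ G) = 0 :=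
  Sheaf.hom_ext (NatTrans.ext (funext fun _ => AddCommGrpCat.hom_ext (AddMonoidHom.ext fun _ => Subtype.ext rfl)))

end LowerSh

section Sums

variable {X : Scheme.{u}} {ι : Type (u + 1)} (F : ι → EtCoh.Ab X)

open scoped Classical in
/-- Projection from the direct sum. -/
def proj (i : ι) : ∐ F ⟶ F i := Sigma.desc fun k => if h : k = i then eqToHom (congrArg F h) else 0

theorem ι_proj (i : ι) : Sigma.ι F i ≫ proj F i = 𝟙 _ := by simp [proj]

theorem ι_proj_ne {i k : ι} (h : k ≠ i) : Sigma.ι F k ≫ proj F i = 0 := by simp [proj, h]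

/-- `s = ∑_{i ∈ T} ι_i π_i s` for all large finite `T`. -/
def Good (U : X.Etale) (s : EtCoh.sect (∐ F) U) : Prop :=
  ∃ S : Finset ι, ∀ T, S ⊆ T →
    s = ∑ i ∈ T, (Sigma.ι F i).hom.app (op U) ((proj F i).hom.app (op U) s)

theorem app_comp {A B C : EtCoh.Ab X} (a : A ⟶ B) (b : B ⟶ C) (W : X.Etaleᵒᵖ) (x : A.obj.obj W) :
    b.hom.app W (a.hom.app W x) = (a ≫ b).hom.app W x :=
  (ConcreteCategory.comp_apply _ _ _).symm

/-- The good sections. -/
def goodSubgroup (U : X.Etale) : AddSubgroup (EtCoh.sect (∐ F) U) where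
  carrier := {s | Good F U s}
  zero_mem' := ⟨∅, fun T _ => by simp⟩
  add_mem' := by
    classical
    rintro a b ⟨S, hS⟩ ⟨S', hS'⟩
    refine ⟨S ∪ S', fun T hT => ?_⟩
    conv_lhs => rw [hS T (Finset.union_subset_left hT), hS' T (Finset.union_subset_right hT)]
    simp only [map_add, Finset.sum_add_distrib]
  neg_mem' := by
    rintro a ⟨S, hS⟩
    refine ⟨S, fun T hT => ?_⟩
    conv_lhs => rw [hS T hT]
    simp only [map_neg, Finset.sum_neg_distrib]

theorem good_ι (U : X.Etale) (k : ι) (a : EtCoh.sect (F k) U) : Good F U ((Sigma.ι F k).hom.app (op U) a) := by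
  refine ⟨{k}, fun T hT => ?_⟩
  rw [Finset.sum_eq_single k]
  · rw [app_comp (Sigma.ι F k) (proj F k), ι_proj]
    rfl
  · intro i _ hi
    rw [app_comp (Sigma.ι F k) (proj F i), ι_proj_ne F (Ne.symm hi)]
    exact map_zero _
  · exact fun h => absurd (hT (Finset.mem_singleton_self k)) h

theorem exists_good_nbhd (U : X.Etale) (s : EtCoh.sect (∐ F) U) (x : U.left) :
    ∃ (V : X.Etale) (g : V ⟶ U) (v : V.left), g.left.base v = x ∧ Good F V ((∐ F).obj.map g.op s) := by
  let P : ι → X.Etaleᵒᵖ ⥤ AddCommGrpCat.{u + 1} := fun i => (F i).obj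
  let d : ∐ P ⟶ (∐ F).obj := Sigma.desc fun i => (Sigma.ι F i).hom
  let K : (presheafToSheaf X.smallEtaleTopology AddCommGrpCat.{u + 1}).obj (∐ P) ⟶ ∐ F :=
    ((sheafificationAdjunction X.smallEtaleTopology AddCommGrpCat.{u + 1}).homEquiv _ _).symm d
  haveI : Epi K := ⟨fun a b h => Sigma.hom_ext _ _ fun i => by
    refine Sheaf.hom_ext ?_
    show (Sigma.ι F i).hom ≫ a.hom = (Sigma.ι F i).hom ≫ b.hom
    have e : d ≫ a.hom = d ≫ b.hom := by
      have := congrArg ((sheafificationAdjunction X.smallEtaleTopology AddCommGrpCat.{u + 1}).homEquiv _ _) h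
      rwa [Adjunction.homEquiv_naturality_right, Adjunction.homEquiv_naturality_right, Equiv.apply_symm_apply] at this
    have := congrArg (Sigma.ι P i ≫ ·) e
    simpa only [d, Sigma.ι_desc_assoc] using this⟩
  haveI : Sheaf.IsLocallySurjective K := (Sheaf.isLocallySurjective_iff_epi' _ K).2 inferInstance
  haveI : Presheaf.IsLocallySurjective X.smallEtaleTopology d := by
    have e : CategoryTheory.toSheafify X.smallEtaleTopology (∐ P) ≫ K.hom = d := by
      have := ((sheafificationAdjunction X.smallEtaleTopology AddCommGrpCat.{u + 1}).homEquiv _ _).apply_symm_apply d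
      rwa [Adjunction.homEquiv_unit] at this
    rw [← e]
    haveI : Presheaf.IsLocallySurjective X.smallEtaleTopology K.hom := ‹_›
    infer_instance
  obtain ⟨V, g, v, ⟨c, hc⟩, hv⟩ := exists_of_mem_topology (Presheaf.imageSieve_mem X.smallEtaleTopology d s) x
  refine ⟨V, g, v, hv, ?_⟩
  rw [← hc]
  let H := (goodSubgroup F V).comap (d.app (op V)).hom
  suffices hH : (QuotientAddGroup.mk' H) c = 0 from (QuotientAddGroup.eq_zero_iff c).1 hH
  have hq : AddCommGrpCat.ofHom (QuotientAddGroup.mk' H) = 0 := by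
    refine (isColimitOfPreserves ((evaluation X.Etaleᵒᵖ AddCommGrpCat.{u + 1}).obj (op V))
      (coproductIsCoproduct P)).hom_ext fun ⟨i⟩ => ?_
    ext a
    refine (QuotientAddGroup.eq_zero_iff _).2 ?_
    show Good F V (d.app (op V) ((Sigma.ι P i).app (op V) a))
    have hd : d.app (op V) ((Sigma.ι P i).app (op V) a) = (Sigma.ι F i).hom.app (op V) a :=
      ConcreteCategory.congr_hom (congr_app (Sigma.ι_desc (fun i => (Sigma.ι F i).hom) i) (op V)) a
    rw [hd]
    exact good_ι F V i a
  exact DFunLike.congr_fun (congrArg AddCommGrpCat.Hom.hom hq) c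

theorem eq_zero_of_nbhds {G : EtCoh.Ab X} (U : X.Etale) (s : EtCoh.sect G U)
    (h : ∀ x : U.left, ∃ (V : X.Etale) (g : V ⟶ U) (v : V.left), g.left.base v = x ∧ G.obj.map g.op s = 0) :
    s = 0 :=
  eq_zero_of_supp_empty G U s (Set.eq_empty_of_forall_notMem fun x => (not_mem_supp_iff G U s x).2 (h x))

theorem eq_zero_of_proj (U : X.Etale) (s : EtCoh.sect (∐ F) U)
    (h : ∀ i, (proj F i).hom.app (op U) s = 0) : s = 0 := by
  refine eq_zero_of_nbhds U s fun x => ?_
  obtain ⟨V, g, v, hv, S, hS⟩ := exists_good_nbhd F U s x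
  refine ⟨V, g, v, hv, ?_⟩
  rw [hS S subset_rfl]
  exact Finset.sum_eq_zero fun i _ => by rw [NatTrans.naturality_apply (proj F i).hom, h, map_zero, map_zero]

theorem good_of_isCompact_supp (U : X.Etale) (s : EtCoh.sect (∐ F) U) (h : IsCompact (sectSupp (∐ F) U s)) :
    Good F U s := by
  classical
  choose V g v hv S hS using fun x => exists_good_nbhd F U s x
  obtain ⟨t, ht⟩ := h.elim_finite_subcover (fun x => Set.range (g x).left.base)
    (fun x => haveI := etale_left (g x); (g x).left.isOpenMap.isOpen_range)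
    (fun x _ => Set.mem_iUnion.2 ⟨x, v x, hv x⟩)
  refine ⟨t.biUnion S, fun T hT => ?_⟩
  rw [← sub_eq_zero]
  refine eq_zero_of_nbhds U _ fun x => ?_
  by_cases hx : x ∈ sectSupp (∐ F) U s
  · obtain ⟨y, hy, w, hw⟩ := Set.mem_iUnion₂.1 (ht hx)
    refine ⟨V y, g y, w, hw, ?_⟩
    rw [map_sub, map_sum, sub_eq_zero]
    conv_lhs => rw [hS y T ((Finset.subset_biUnion_of_mem S hy).trans hT)]
    refine Finset.sum_congr rfl fun i _ => ?_
    rw [NatTrans.naturality_apply (proj F i).hom, NatTrans.naturality_apply (Sigma.ι F i).hom]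
  · obtain ⟨W, k, w, hw, hk⟩ := (not_mem_supp_iff _ U s x).1 hx
    refine ⟨W, k, w, hw, ?_⟩
    rw [map_sub, map_sum, hk, zero_sub, neg_eq_zero]
    refine Finset.sum_eq_zero fun i _ => ?_
    rw [← NatTrans.naturality_apply (Sigma.ι F i).hom, ← NatTrans.naturality_apply (proj F i).hom, hk,
      map_zero, map_zero]

end Sums

theorem preservesColimitsOfShape_Lsh {X Y : Scheme.{u}} (f : X ⟶ Y) [LocallyOfFiniteType f]
    (ι : Type (u + 1)) : PreservesColimitsOfShape (Discrete ι) (Lsh f) := by
  suffices ∀ F : ι → EtCoh.Ab X, PreservesColimit (Discrete.functor F) (Lsh f) from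
    haveI := this
    preservesColimitsOfShape_of_discrete _
  intro F
  let c := sigmaComparison (Lsh f) F
  let G : ι → EtCoh.Ab Y := fun i => (Lsh f).obj (F i)
  have hc : ∀ i, c ≫ (Lsh f).map (proj F i) = proj G i := fun i => Sigma.hom_ext _ _ fun k => by
    rw [ι_comp_sigmaComparison_assoc, ← Functor.map_comp]
    by_cases h : k = i
    · subst h
      rw [ι_proj, CategoryTheory.Functor.map_id]
      exact (ι_proj G k).symm
    · rw [ι_proj_ne F h, Lsh_map_zero]
      exact (ι_proj_ne G h).symm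
  have hinj : ∀ W, Function.Injective (c.hom.app W).hom := fun W => by
    refine (injective_iff_map_eq_zero _).2 fun s hs => eq_zero_of_proj G W.unop s fun i => ?_
    rw [← hc i, ← app_comp]
    exact (congrArg _ hs).trans (map_zero _)
  haveI : ∀ W, Mono (c.hom.app W) := fun W => (AddCommGrpCat.mono_iff_injective _).2 (hinj W)
  haveI : Mono c.hom := NatTrans.mono_of_mono_app _
  haveI : Mono c := (sheafToPresheaf Y.smallEtaleTopology AddCommGrpCat.{u + 1}).mono_of_mono_map ‹_›
  haveI : ∀ W, IsIso (c.hom.app W) := fun W => by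
    refine (ConcreteCategory.isIso_iff_bijective _).2 ⟨hinj W, fun s => ?_⟩
    refine mem_range_of_locally c W.unop s fun v => ?_
    obtain ⟨A, hA, hv, -⟩ := exists_isAffineOpen_mem_and_subset (x := v) (U := ⊤) trivial
    refine ⟨openObj W.unop A, openHom W.unop A, ⟨v, hv⟩, rfl, ?_⟩
    haveI : IsAffine (openObj W.unop A).left := hA
    generalize ((Lsh f).obj (∐ F)).obj.map (openHom W.unop A).op s = t
    obtain ⟨t, ht⟩ := t
    have hpt := (mem_shriekSubgroup_iff (∐ F) f (openObj W.unop A) t).1 ht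
    have hcpt : IsCompact (sectSupp (∐ F) ((EtCoh.bc f).obj (openObj W.unop A)) t) := by
      obtain ⟨hcl, hp⟩ := hpt
      let i := (Scheme.IdealSheafData.vanishingIdeal ⟨_, hcl⟩).subschemeι
      haveI : IsProper (i ≫ prV f (openObj W.unop A)) := hp
      haveI : CompactSpace (Scheme.IdealSheafData.vanishingIdeal ⟨_, hcl⟩).subscheme :=
        QuasiCompact.compactSpace_of_compactSpace (i ≫ prV f (openObj W.unop A))
      have := isCompact_range i.continuous
      rwa [Scheme.IdealSheafData.range_subschemeι, Scheme.IdealSheafData.coe_support_vanishingIdeal] at this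
    obtain ⟨S, hS⟩ := good_of_isCompact_supp F _ t hcpt
    refine ⟨∑ i ∈ S, (Sigma.ι G i).hom.app (op (openObj W.unop A))
      ⟨(proj F i).hom.app _ t, shriekSubgroup_le_comap_app f (proj F i) _ ht⟩, Subtype.ext ?_⟩
    rw [map_sum]
    refine ((map_sum (shriekSubgroup f (∐ F) (openObj W.unop A)).subtype _ _).trans (Finset.sum_congr rfl fun i _ => ?_)).trans (hS S subset_rfl).symm
    show (c.hom.app _ ((Sigma.ι G i).hom.app _ _)).1 = _
    rw [app_comp (Sigma.ι G i) c, ι_comp_sigmaComparison (Lsh f) F i]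
    rfl
  haveI : IsIso ((sheafToPresheaf Y.smallEtaleTopology AddCommGrpCat.{u + 1}).map c) :=
    NatIso.isIso_of_isIso_app c.hom
  haveI : IsIso c := isIso_of_reflects_iso _ (sheafToPresheaf _ _)
  exact PreservesCoproduct.of_iso_comparison (Lsh f) F

theorem preservesColimitsOfShape_lowerShriek {X Y : Scheme.{u}} (f : X ⟶ Y) [LocallyOfFiniteType f]
    (ι : Type u) : PreservesColimitsOfShape (Discrete ι) (lowerShriek f) := by
  haveI := preservesColimitsOfShape_Lsh f (ULift.{u + 1} ι)
  haveI := preservesColimitsOfShape_of_equiv (Discrete.equivalence Equiv.ulift.{u + 1, u}) (Lsh f) (J' := Discrete ι)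
  exact preservesColimitsOfShape_of_natIso (lowerShriekIso f).symm

end

end Groth.Agent.EtShriekLib
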