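import Groth.Prelude.Def_EtShriek2
import Groth.Agent.ProperOver.Basic
import Groth.Agent.EtSite.Points
import Mathlib.AlgebraicGeometry.Morphisms.UniversallyOpen

/-! Supports of sections on small étale sites; sections with proper support. -/

set_option autoImplicit false
set_option linter.style.haveILetI false
set_option backward.isDefEq.respectTransparency.types false
set_option backward.defeqAttrib.useBackward true

universe u

open CategoryTheory CategoryTheory.Limits AlgebraicGeometry Opposite EtShriek

namespace Groth.Agent.EtShriekLib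

noncomputable section

variable {X Y : Scheme.{u}} (F : EtCoh.Ab X)

/-- An open of an étale `X`-scheme as an object of the site. -/
abbrev openObj (U : X.Etale) (O : U.left.Opens) : X.Etale :=
  haveI : Etale U.hom := U.prop
  MorphismProperty.Over.mk ⊤ (O.ι ≫ U.hom) (by show Etale _; infer_instance)

/-- Its inclusion. -/
abbrev openHom (U : X.Etale) (O : U.left.Opens) : openObj U O ⟶ U := MorphismProperty.Over.homMk O.ι rfl

theorem not_mem_supp_iff (U : X.Etale) (s : EtCoh.sect F U) (x : U.left) :
    x ∉ sectSupp F U s ↔ ∃ (W : X.Etale) (g : W ⟶ U) (w : W.left), g.left.base w = x ∧ F.obj.map g.op s = 0 := by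
  constructor
  · intro h
    by_contra hc
    push Not at hc
    exact h fun W g ⟨w, hw⟩ => hc W g w hw
  · rintro ⟨W, g, w, hw, hs⟩ h
    exact h W g ⟨w, hw⟩ hs

theorem etale_left {U W : X.Etale} (g : W ⟶ U) : Etale g.left := by
  haveI : Etale U.hom := U.prop
  haveI : Etale (g.left ≫ U.hom) := by rw [MorphismProperty.Over.w g]; exact W.prop
  exact Etale.of_comp g.left U.hom

theorem isClosed_supp (U : X.Etale) (s : EtCoh.sect F U) : IsClosed (sectSupp F U s) := by
  rw [← isOpen_compl_iff, isOpen_iff_forall_mem_open]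
  intro x hx
  obtain ⟨W, g, w, hw, hs⟩ := (not_mem_supp_iff F U s x).1 hx
  haveI := etale_left g
  exact ⟨Set.range g.left.base, fun y ⟨w', hw'⟩ => (not_mem_supp_iff F U s y).2 ⟨W, g, w', hw', hs⟩,
    g.left.isOpenMap.isOpen_range, ⟨w, hw⟩⟩

theorem supp_map {U W : X.Etale} (g : W ⟶ U) (s : EtCoh.sect F U) :
    sectSupp F W (F.obj.map g.op s) = g.left.base ⁻¹' sectSupp F U s := by
  ext y
  rw [← not_iff_not, Set.mem_preimage, not_mem_supp_iff, not_mem_supp_iff]
  constructor
  · rintro ⟨T, h, t, ht, hs⟩
    refine ⟨T, h ≫ g, t, ?_, by rw [op_comp, Functor.map_comp_apply]; exact hs⟩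
    show (h.left ≫ g.left).base t = _
    rw [Scheme.Hom.comp_apply, ht]
  · rintro ⟨T, h, t, ht, hs⟩
    haveI := etale_left h
    obtain ⟨p, hp₁, hp₂⟩ := Scheme.Pullback.exists_preimage_pullback (f := g.left) (g := h.left) y t ht.symm
    have hP : EtCoh.etaleMP (pullback.fst g.left h.left ≫ W.hom) := by
      haveI : Etale W.hom := W.prop
      show Etale _
      infer_instance
    let T' : X.Etale := MorphismProperty.Over.mk ⊤ (pullback.fst g.left h.left ≫ W.hom) hP
    let a : T' ⟶ W := MorphismProperty.Over.homMk (pullback.fst g.left h.left) rfl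
    let b : T' ⟶ T := MorphismProperty.Over.homMk (pullback.snd g.left h.left) (by
      show _ ≫ T.hom = _ ≫ W.hom
      rw [← MorphismProperty.Over.w h, ← MorphismProperty.Over.w g]
      exact ((Category.assoc _ _ _).symm.trans (congrArg (· ≫ U.hom) pullback.condition.symm)).trans
        (Category.assoc _ _ _))
    refine ⟨T', a, p, hp₁, ?_⟩
    have hab : a ≫ g = b ≫ h := MorphismProperty.Over.Hom.ext pullback.condition
    rw [← Functor.map_comp_apply, ← op_comp, hab, op_comp, Functor.map_comp_apply, hs, map_zero]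

theorem supp_zero (U : X.Etale) : sectSupp F U 0 = ∅ := by
  ext x
  simp only [Set.mem_empty_iff_false, iff_false]
  exact (not_mem_supp_iff F U 0 x).2 ⟨U, 𝟙 U, x, rfl, map_zero _⟩

theorem supp_neg (U : X.Etale) (s : EtCoh.sect F U) : sectSupp F U (-s) = sectSupp F U s := by
  ext x
  rw [← not_iff_not, not_mem_supp_iff, not_mem_supp_iff]
  simp only [map_neg, neg_eq_zero]

theorem supp_add (U : X.Etale) (s t : EtCoh.sect F U) :
    sectSupp F U (s + t) ⊆ sectSupp F U s ∪ sectSupp F U t := by
  intro x hx
  by_contra h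
  simp only [Set.mem_union, not_or] at h
  obtain ⟨W, g, w, hw, hs⟩ := (not_mem_supp_iff F U s x).1 h.1
  have hw' : w ∉ sectSupp F W (F.obj.map g.op t) := by rw [supp_map, Set.mem_preimage, hw]; exact h.2
  obtain ⟨W', g', w', hw₂, ht⟩ := (not_mem_supp_iff F W _ w).1 hw'
  refine (not_mem_supp_iff F U (s + t) x).2 ⟨W', g' ≫ g, w', ?_, ?_⟩ hx
  · show (g'.left ≫ g.left).base w' = x
    rw [Scheme.Hom.comp_apply, hw₂, hw]
  · rw [op_comp, Functor.map_comp_apply, map_add, map_add, hs, map_zero, zero_add, ht]

theorem eq_zero_of_supp_empty (U : X.Etale) (s : EtCoh.sect F U) (h : sectSupp F U s = ∅) : s = 0 := by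
  let S : Sieve U :=
    { arrows := fun W g => F.obj.map g.op s = 0
      downward_closed := fun hf k => by rw [op_comp, Functor.map_comp_apply, hf, map_zero] }
  have hS : S ∈ X.smallEtaleTopology U := EtSite.mem_smallEtaleTopology_of_points U S fun x => by
    obtain ⟨W, g, w, hw, hs⟩ := (not_mem_supp_iff F U s x).1 (by rw [h]; exact Set.notMem_empty x)
    exact ⟨W, g, w, hs, hw⟩
  exact Presheaf.IsSheaf.isSeparated F.property U S hS s 0 fun W g hg => hg.trans (map_zero _).symm

theorem map_eq_zero_of_disjoint {U W : X.Etale} (g : W ⟶ U) (s : EtCoh.sect F U)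
    (h : Disjoint (Set.range g.left.base) (sectSupp F U s)) : F.obj.map g.op s = 0 :=
  eq_zero_of_supp_empty F W _ (by
    rw [supp_map, Set.preimage_eq_empty h.symm])

omit F in
theorem exists_of_mem_topology {W : X.Etale} {R : Sieve W} (hR : R ∈ X.smallEtaleTopology W) (x : W.left) :
    ∃ (V : X.Etale) (g : V ⟶ W) (v : V.left), R g ∧ g.left.base v = x := by
  have e : X.smallEtaleTopology =
      (X.smallPretopology (P := EtCoh.etaleMP) (Q := EtCoh.etaleMP)).toGrothendieck :=
    Scheme.smallGrothendieckTopology_eq_toGrothendieck_smallPretopology X le_rfl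
  rw [e] at hR
  obtain ⟨V, g, v, hg, -, hv⟩ := (Scheme.mem_toGrothendieck_smallPretopology W R).1 hR x
  exact ⟨V, g, v, hg, hv⟩

section Proper

omit F in
/-- Base change of closed subsets proper over the base. -/
theorem isProperOver_preimage {P V P' V' : Scheme.{u}} {π : P ⟶ V} [LocallyOfFiniteType π] {Z : Set P}
    (hZ : ClSub.IsProperOver π Z) {q : P' ⟶ P} {π' : P' ⟶ V'} {φ : V' ⟶ V} (sq : IsPullback q π' π φ) :
    ClSub.IsProperOver π' (q.base ⁻¹' Z) := by
  haveI : LocallyOfFiniteType π' := MorphismProperty.of_isPullback sq inferInstance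
  obtain ⟨h, hp⟩ := hZ
  let i := (Scheme.IdealSheafData.vanishingIdeal ⟨Z, h⟩).subschemeι
  haveI : IsProper (pullback.fst q i ≫ π') :=
    MorphismProperty.of_isPullback ((IsPullback.of_hasPullback q i).flip.paste_vert sq) hp
  have hr := ProperOver.of_range (f := π') (pullback.fst q i)
  rwa [Scheme.Pullback.range_fst, Scheme.IdealSheafData.range_subschemeι,
    Scheme.IdealSheafData.coe_support_vanishingIdeal] at hr

omit F in
/-- Inside an open subscheme of a scheme proper over the base, proper over the base means closed. -/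
theorem isProperOver_iff_isClosed_image {P Q V : Scheme.{u}} (h : P ⟶ Q) [IsOpenImmersion h] (q : Q ⟶ V)
    [IsProper q] {π : P ⟶ V} [LocallyOfFiniteType π] (hπ : h ≫ q = π) {Z : Set P} (hZ : IsClosed Z) :
    ClSub.IsProperOver π Z ↔ IsClosed (h.base '' Z) := by
  let i := (Scheme.IdealSheafData.vanishingIdeal ⟨Z, hZ⟩).subschemeι
  have hi : Set.range i.base = Z := by
    rw [Scheme.IdealSheafData.range_subschemeι, Scheme.IdealSheafData.coe_support_vanishingIdeal]; rfl
  have hr : h.base '' Z = Set.range (i ≫ h).base := by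
    conv_lhs => rw [← hi, ← Set.range_comp]
    rfl
  constructor
  · rintro ⟨_, hp⟩
    haveI : IsProper ((i ≫ h) ≫ q) := by rw [Category.assoc, hπ]; exact hp
    haveI : IsProper (i ≫ h) := IsProper.of_comp (i ≫ h) q
    rw [hr]
    exact (i ≫ h).isClosedMap.isClosed_range
  · intro hc
    haveI : IsClosedImmersion (i ≫ h) := IsClosedImmersion.of_isPreimmersion _ (hr ▸ hc)
    refine ⟨hZ, ?_⟩
    rw [← hπ, ← Category.assoc]
    show IsProper ((i ≫ h) ≫ q)
    infer_instance

variable (f : X ⟶ Y) [LocallyOfFiniteType f]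

instance locallyOfFiniteType_prV (V : Y.Etale) : LocallyOfFiniteType (prV f V) :=
  inferInstanceAs (LocallyOfFiniteType (pullback.fst V.hom f))

theorem shriekPred_iff (V : Y.Etale) (s : EtCoh.sect F ((EtCoh.bc f).obj V)) :
    ShriekPred f F V s ↔ ClSub.IsProperOver (prV f V) (sectSupp F ((EtCoh.bc f).obj V) s) := by
  constructor
  · intro h
    obtain ⟨Z, hZ, hp⟩ := h V (𝟙 V)
    rw [CategoryTheory.Functor.map_id, op_id, CategoryTheory.Functor.map_id] at hZ
    exact ProperOver.mono hp (isClosed_supp F _ s) hZ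
  · intro h V' φ
    refine ⟨_, subset_rfl, ?_⟩
    rw [supp_map]
    exact isProperOver_preimage h (EtCoh.isPullback_bc_map f φ)

theorem mem_shriekSubgroup_iff (V : Y.Etale) (s : EtCoh.sect F ((EtCoh.bc f).obj V)) :
    s ∈ shriekSubgroup f F V ↔ ClSub.IsProperOver (prV f V) (sectSupp F ((EtCoh.bc f).obj V) s) := by
  refine ⟨fun h => ?_, fun h => AddSubgroup.subset_closure ((shriekPred_iff F f V s).2 h)⟩
  induction h using AddSubgroup.closure_induction with
  | mem x hx => exact (shriekPred_iff F f V x).1 hx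
  | zero => rw [supp_zero]; exact ProperOver.empty
  | add x y _ _ hx hy => exact ProperOver.mono (ProperOver.union hx hy) (isClosed_supp F _ _) (supp_add F _ x y)
  | neg x _ hx => rw [supp_neg]; exact hx

end Proper

end

end Groth.Agent.EtShriekLib
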