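import Groth.Prelude.Def_EtTens2
import Groth.Agent.EtSite.Points

/-! Stalks of tensor products of abelian étale sheaves. -/

set_option autoImplicit false
set_option linter.style.haveILetI false
set_option backward.isDefEq.respectTransparency.types false
set_option backward.defeqAttrib.useBackward true
set_option backward.isDefEq.respectTransparency false

universe u

open CategoryTheory CategoryTheory.Limits AlgebraicGeometry Opposite TensorProduct

namespace Groth.Agent.EtShriekLib

noncomputable section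

variable {Y : Scheme.{u}} {Ω : Type u} [Field Ω] [IsSepClosed Ω] (η : Spec (CommRingCat.of Ω) ⟶ Y)

local notation "Φ" => Scheme.pointSmallEtale η

/-- The product of two étale `Y`-schemes. -/
def prodObj (U V : Y.Etale) : Y.Etale :=
  MorphismProperty.Over.mk ⊤ (pullback.fst U.hom V.hom ≫ U.hom) (by
    haveI : Etale U.hom := U.prop
    haveI : Etale V.hom := V.prop
    show Etale _
    infer_instance)

def prodFst (U V : Y.Etale) : prodObj U V ⟶ U := MorphismProperty.Over.homMk (pullback.fst U.hom V.hom) rfl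

def prodSnd (U V : Y.Etale) : prodObj U V ⟶ V :=
  MorphismProperty.Over.homMk (pullback.snd U.hom V.hom) pullback.condition.symm

def prodMap {U U' V V' : Y.Etale} (a : U' ⟶ U) (b : V' ⟶ V) : prodObj U' V' ⟶ prodObj U V :=
  MorphismProperty.Over.homMk
    (pullback.map U'.hom V'.hom U.hom V.hom a.left b.left (𝟙 Y)
      ((Category.comp_id _).trans (MorphismProperty.Over.w a).symm)
      ((Category.comp_id _).trans (MorphismProperty.Over.w b).symm))
    (by
      show pullback.map _ _ _ _ _ _ _ _ _ ≫ pullback.fst U.hom V.hom ≫ U.hom = pullback.fst U'.hom V'.hom ≫ U'.hom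
      rw [← Category.assoc, pullback.lift_fst, Category.assoc, MorphismProperty.Over.w a])

theorem prodMap_fst {U U' V V' : Y.Etale} (a : U' ⟶ U) (b : V' ⟶ V) :
    prodMap a b ≫ prodFst U V = prodFst U' V' ≫ a :=
  MorphismProperty.Over.Hom.ext (pullback.lift_fst _ _ _)

theorem prodMap_snd {U U' V V' : Y.Etale} (a : U' ⟶ U) (b : V' ⟶ V) :
    prodMap a b ≫ prodSnd U V = prodSnd U' V' ≫ b :=
  MorphismProperty.Over.Hom.ext (pullback.lift_snd _ _ _)

def diag (U : Y.Etale) : U ⟶ prodObj U U :=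
  MorphismProperty.Over.homMk (pullback.lift (𝟙 _) (𝟙 _) rfl) (by
    show pullback.lift _ _ _ ≫ pullback.fst U.hom U.hom ≫ U.hom = U.hom
    rw [← Category.assoc, pullback.lift_fst]
    exact Category.id_comp _)

def prodPt {U V : Y.Etale} (u : (Φ).fiber.obj U) (v : (Φ).fiber.obj V) : (Φ).fiber.obj (prodObj U V) :=
  Over.homMk (pullback.lift u.left v.left ((Over.w u).trans (Over.w v).symm)) (by
    show pullback.lift _ _ _ ≫ pullback.fst U.hom V.hom ≫ U.hom = η
    rw [← Category.assoc, pullback.lift_fst]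
    exact Over.w u)

theorem map_prodPt_fst {U V : Y.Etale} (u : (Φ).fiber.obj U) (v : (Φ).fiber.obj V) :
    (Φ).fiber.map (prodFst U V) (prodPt η u v) = u :=
  Over.OverMorphism.ext (pullback.lift_fst _ _ _)

theorem map_prodPt_snd {U V : Y.Etale} (u : (Φ).fiber.obj U) (v : (Φ).fiber.obj V) :
    (Φ).fiber.map (prodSnd U V) (prodPt η u v) = v :=
  Over.OverMorphism.ext (pullback.lift_snd _ _ _)

theorem map_prodMap {U U' V V' : Y.Etale} (a : U' ⟶ U) (b : V' ⟶ V) (u : (Φ).fiber.obj U')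
    (v : (Φ).fiber.obj V') :
    (Φ).fiber.map (prodMap a b) (prodPt η u v) = prodPt η ((Φ).fiber.map a u) ((Φ).fiber.map b v) := by
  refine Over.OverMorphism.ext (pullback.hom_ext ?_ ?_)
  · show (pullback.lift _ _ _ ≫ (prodMap a b).left) ≫ _ = pullback.lift _ _ _ ≫ _
    rw [pullback.lift_fst, Category.assoc, show (prodMap a b).left ≫ pullback.fst U.hom V.hom = _ from
      pullback.lift_fst _ _ _, ← Category.assoc, pullback.lift_fst]
    rfl
  · show (pullback.lift _ _ _ ≫ (prodMap a b).left) ≫ _ = pullback.lift _ _ _ ≫ _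
    rw [pullback.lift_snd, Category.assoc, show (prodMap a b).left ≫ pullback.snd U.hom V.hom = _ from
      pullback.lift_snd _ _ _, ← Category.assoc, pullback.lift_snd]
    rfl

theorem map_diag (U : Y.Etale) (u : (Φ).fiber.obj U) : (Φ).fiber.map (diag U) u = prodPt η u u := by
  refine Over.OverMorphism.ext (pullback.hom_ext ?_ ?_)
  · show (u.left ≫ pullback.lift _ _ _) ≫ _ = pullback.lift _ _ _ ≫ _
    simp
  · show (u.left ≫ pullback.lift _ _ _) ≫ _ = pullback.lift _ _ _ ≫ _
    simp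

/-- The fibre of a presheaf. -/
abbrev fib (P : Y.Etaleᵒᵖ ⥤ AddCommGrpCat.{u + 1}) : AddCommGrpCat.{u + 1} :=
  (Scheme.pointSmallEtale η).presheafFiber.obj P

section Pre

variable (P Q : Y.Etaleᵒᵖ ⥤ AddCommGrpCat.{u + 1})

/-- `m ⊗ n` at the product, as a germ. -/
def bil (U : Y.Etale) (u : (Φ).fiber.obj U) (V : Y.Etale) (v : (Φ).fiber.obj V) :
    P.obj (op U) →+ Q.obj (op V) →+ fib η (EtTens.tensorObj P Q) :=
  AddMonoidHom.mk' (fun m => AddMonoidHom.mk'
      (fun n => (Φ).toPresheafFiber (prodObj U V) (prodPt η u v) (EtTens.tensorObj P Q)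
        (P.map (prodFst U V).op m ⊗ₜ[ℤ] Q.map (prodSnd U V).op n))
      (fun n n' => by
        rw [map_add (Q.map (prodSnd U V).op).hom, TensorProduct.tmul_add]
        exact map_add _ _ _))
    (fun m m' => AddMonoidHom.ext fun n => by
      simp only [AddMonoidHom.mk'_apply, AddMonoidHom.add_apply]
      rw [map_add (P.map (prodFst U V).op).hom, TensorProduct.add_tmul]
      exact map_add _ _ _)

theorem bil_apply (U : Y.Etale) (u : (Φ).fiber.obj U) (V : Y.Etale) (v : (Φ).fiber.obj V)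
    (m : P.obj (op U)) (n : Q.obj (op V)) :
    bil η P Q U u V v m n = (Φ).toPresheafFiber (prodObj U V) (prodPt η u v) (EtTens.tensorObj P Q)
        (P.map (prodFst U V).op m ⊗ₜ[ℤ] Q.map (prodSnd U V).op n) := rfl

theorem bil_map {U U' V V' : Y.Etale} (a : U' ⟶ U) (b : V' ⟶ V) (u : (Φ).fiber.obj U')
    (v : (Φ).fiber.obj V') (m : P.obj (op U)) (n : Q.obj (op V)) :
    bil η P Q U' u V' v (P.map a.op m) (Q.map b.op n) =
      bil η P Q U ((Φ).fiber.map a u) V ((Φ).fiber.map b v) m n := by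
  rw [bil_apply, bil_apply, ← map_prodMap, ← (Φ).toPresheafFiber_w_apply (prodMap a b)]
  rw [EtTens.tensorObj_map_tmul, ← Functor.map_comp_apply, ← Functor.map_comp_apply, ← Functor.map_comp_apply,
    ← Functor.map_comp_apply, ← op_comp, ← op_comp, ← op_comp, ← op_comp, prodMap_fst, prodMap_snd]

/-- Partial map. -/
def bilRight (U : Y.Etale) (u : (Φ).fiber.obj U) (m : P.obj (op U)) :
    fib η Q ⟶ fib η (EtTens.tensorObj P Q) :=
  (Φ).presheafFiberDesc (fun V v => AddCommGrpCat.ofHom (bil η P Q U u V v m)) fun V V' b v => by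
    ext n
    have := bil_map η P Q (𝟙 U) b u v m n
    rw [op_id, P.map_id] at this
    refine Eq.trans ?_ (this.trans ?_)
    · rfl
    · rw [show (Φ).fiber.map (𝟙 U) u = u by simp]
      rfl

theorem bilRight_germ (U : Y.Etale) (u : (Φ).fiber.obj U) (m : P.obj (op U)) (V : Y.Etale)
    (v : (Φ).fiber.obj V) (n : Q.obj (op V)) :
    bilRight η P Q U u m ((Φ).toPresheafFiber V v Q n) = bil η P Q U u V v m n :=
  ConcreteCategory.congr_hom ((Φ).toPresheafFiber_presheafFiberDesc
    (fun V v => AddCommGrpCat.ofHom (bil η P Q U u V v m)) _ V v) n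

def bilLeft : fib η P ⟶
    AddCommGrpCat.of (fib η Q →+ fib η (EtTens.tensorObj P Q)) :=
  (Φ).presheafFiberDesc (fun U u => AddCommGrpCat.ofHom (AddMonoidHom.mk'
      (fun m => (bilRight η P Q U u m).hom) (fun m m' => AddMonoidHom.ext fun q => by
        obtain ⟨V, v, n, rfl⟩ := (Φ).toPresheafFiber_jointly_surjective q
        show bilRight η P Q U u (m + m') _ = bilRight η P Q U u m _ + bilRight η P Q U u m' _
        rw [bilRight_germ, bilRight_germ, bilRight_germ, map_add]
        rfl))) fun U U' a u => by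
    ext m q
    obtain ⟨V, v, n, rfl⟩ := (Φ).toPresheafFiber_jointly_surjective q
    show bilRight η P Q U u (P.map a.op m) _ = bilRight η P Q U' _ m _
    rw [bilRight_germ, bilRight_germ]
    have := bil_map η P Q a (𝟙 V) u v m n
    rw [op_id, Q.map_id] at this
    refine this.trans ?_
    rw [show (Φ).fiber.map (𝟙 V) v = v by simp]

/-- `P_η ⊗ Q_η → (P ⊗ Q)_η`. -/
def θ : fib η P ⊗[ℤ] fib η Q →+ fib η (EtTens.tensorObj P Q) :=
  TensorProduct.liftAddHom (bilLeft η P Q).hom (fun r m n => by rw [map_zsmul (bilLeft η P Q).hom]; simp)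

theorem bilLeft_germ (U : Y.Etale) (u : (Φ).fiber.obj U) (m : P.obj (op U)) :
    bilLeft η P Q ((Φ).toPresheafFiber U u P m) = (bilRight η P Q U u m).hom := by
  unfold bilLeft
  rw [← ConcreteCategory.comp_apply, (Φ).toPresheafFiber_presheafFiberDesc _ _ U u]
  rfl

theorem θ_germ (U : Y.Etale) (u : (Φ).fiber.obj U) (m : P.obj (op U)) (V : Y.Etale)
    (v : (Φ).fiber.obj V) (n : Q.obj (op V)) :
    θ η P Q ((Φ).toPresheafFiber U u P m ⊗ₜ[ℤ] (Φ).toPresheafFiber V v Q n) = bil η P Q U u V v m n := by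
  rw [← bilRight_germ, θ, TensorProduct.liftAddHom_tmul]
  exact DFunLike.congr_fun (F := fib η Q →+ fib η (EtTens.tensorObj P Q)) (bilLeft_germ η P Q U u m) _

/-- `(P ⊗ Q)_η → P_η ⊗ Q_η`. -/
def θinv : fib η (EtTens.tensorObj P Q) ⟶
    AddCommGrpCat.of (fib η P ⊗[ℤ] fib η Q) :=
  (Φ).presheafFiberDesc (fun U u => AddCommGrpCat.ofHom (TensorProduct.map
    ((Φ).toPresheafFiber U u P).hom.toIntLinearMap ((Φ).toPresheafFiber U u Q).hom.toIntLinearMap).toAddMonoidHom)
    fun U U' a u => EtTens.hom_ext_tmul fun m n => by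
      show (Φ).toPresheafFiber U u P (P.map a.op m) ⊗ₜ[ℤ] (Φ).toPresheafFiber U u Q (Q.map a.op n) =
        (Φ).toPresheafFiber U' _ P m ⊗ₜ[ℤ] (Φ).toPresheafFiber U' _ Q n
      rw [(Φ).toPresheafFiber_w_apply, (Φ).toPresheafFiber_w_apply]

theorem θinv_germ (U : Y.Etale) (u : (Φ).fiber.obj U) (m : P.obj (op U)) (n : Q.obj (op U)) :
    θinv η P Q ((Φ).toPresheafFiber U u (EtTens.tensorObj P Q) (m ⊗ₜ[ℤ] n)) =
      (Φ).toPresheafFiber U u P m ⊗ₜ[ℤ] (Φ).toPresheafFiber U u Q n :=
  ConcreteCategory.congr_hom ((Φ).toPresheafFiber_presheafFiberDesc (P := EtTens.tensorObj P Q)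
    (T := AddCommGrpCat.of (fib η P ⊗[ℤ] fib η Q)) _ _ U u) (m ⊗ₜ[ℤ] n)

theorem bijective_θ : Function.Bijective (θ η P Q) := by
  refine Function.bijective_iff_has_inverse.2 ⟨θinv η P Q, fun x => ?_, fun y => ?_⟩
  · induction x using TensorProduct.induction_on with
    | zero => rw [map_zero, map_zero]
    | tmul p q =>
      obtain ⟨U, u, m, rfl⟩ := (Φ).toPresheafFiber_jointly_surjective p
      obtain ⟨V, v, n, rfl⟩ := (Φ).toPresheafFiber_jointly_surjective q
      rw [θ_germ, bil_apply, θinv_germ, (Φ).toPresheafFiber_w_apply, (Φ).toPresheafFiber_w_apply,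
        map_prodPt_fst, map_prodPt_snd]
    | add a b ha hb =>
      rw [map_add (θ η P Q)]
      exact (map_add (θinv η P Q).hom _ _).trans (congrArg₂ (· + ·) ha hb)
  · obtain ⟨U, u, z, rfl⟩ := (Φ).toPresheafFiber_jointly_surjective y
    induction z using TensorProduct.induction_on with
    | zero => simp
    | tmul m n =>
      rw [θinv_germ, θ_germ, bil_apply, ← map_diag, ← (Φ).toPresheafFiber_w_apply, EtTens.tensorObj_map_tmul,
        ← Functor.map_comp_apply, ← Functor.map_comp_apply, ← op_comp, ← op_comp]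
      have h1 : diag U ≫ prodFst U U = 𝟙 U := MorphismProperty.Over.Hom.ext (pullback.lift_fst _ _ _)
      have h2 : diag U ≫ prodSnd U U = 𝟙 U := MorphismProperty.Over.Hom.ext (pullback.lift_snd _ _ _)
      rw [h1, h2, op_id, P.map_id, Q.map_id]
      rfl
    | add a b ha hb =>
      rw [map_add ((Φ).toPresheafFiber U u (EtTens.tensorObj P Q)).hom, map_add (θinv η P Q).hom, map_add (θ η P Q),
        ha, hb]

end Pre

variable (F G : EtCoh.Ab Y)

/-- `F_η ⊗ G_η → (F ⊗ G)_η`. -/
def stalkTensor : (EtCoh.stalk η).obj F ⊗[ℤ] (EtCoh.stalk η).obj G →+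
    (EtCoh.stalk η).obj ((EtTens.tensorBi.obj F).obj G) :=
  ((Φ).presheafFiber.map (CategoryTheory.toSheafify Y.smallEtaleTopology (EtTens.tensorObj F.obj G.obj))).hom.comp
    (θ η F.obj G.obj)

theorem bijective_stalkTensor : Function.Bijective (stalkTensor η F G) :=
  ((Φ).toPresheafFiber_map_bijective (CategoryTheory.toSheafify Y.smallEtaleTopology
    (EtTens.tensorObj F.obj G.obj))).comp (bijective_θ η F.obj G.obj)

/-- The section `m ⊗ n` of `F ⊗ G`. -/
def tmulSect (U : Y.Etale) (m : EtCoh.sect F U) (n : EtCoh.sect G U) :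
    EtCoh.sect ((EtTens.tensorBi.obj F).obj G) U :=
  (CategoryTheory.toSheafify Y.smallEtaleTopology (EtTens.tensorObj F.obj G.obj)).app (op U) (m ⊗ₜ[ℤ] n)

theorem stalkTensor_germ (U : Y.Etale) (u : (Φ).fiber.obj U) (m : EtCoh.sect F U) (n : EtCoh.sect G U) :
    stalkTensor η F G ((Φ).toPresheafFiber U u F.obj m ⊗ₜ[ℤ] (Φ).toPresheafFiber U u G.obj n) =
      (Φ).toPresheafFiber U u ((EtTens.tensorBi.obj F).obj G).obj (tmulSect F G U m n) := by
  have h := (bijective_θ η F.obj G.obj).1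
  have e : θ η F.obj G.obj ((Φ).toPresheafFiber U u F.obj m ⊗ₜ[ℤ] (Φ).toPresheafFiber U u G.obj n) =
      (Φ).toPresheafFiber U u (EtTens.tensorObj F.obj G.obj) (m ⊗ₜ[ℤ] n) := by
    rw [θ_germ, bil_apply, ← map_diag, ← (Φ).toPresheafFiber_w_apply, EtTens.tensorObj_map_tmul,
      ← Functor.map_comp_apply, ← Functor.map_comp_apply, ← op_comp, ← op_comp]
    have h1 : diag U ≫ prodFst U U = 𝟙 U := MorphismProperty.Over.Hom.ext (pullback.lift_fst _ _ _)
    have h2 : diag U ≫ prodSnd U U = 𝟙 U := MorphismProperty.Over.Hom.ext (pullback.lift_snd _ _ _)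
    rw [h1, h2, op_id, F.obj.map_id, G.obj.map_id]
    rfl
  exact (congrArg _ e).trans ((Φ).toPresheafFiber_naturality_apply
    (CategoryTheory.toSheafify Y.smallEtaleTopology (EtTens.tensorObj F.obj G.obj)) U u (m ⊗ₜ[ℤ] n))

end

end Groth.Agent.EtShriekLib
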